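import Cfsg.Agent.H251.Der.Kill
import Cfsg.Agent.H251.Der.Facts
import Cfsg.Agent.H251.Small.Main
import Cfsg.Agent.H439.Der.Tools
import Cfsg.Agent.H372.Unit
import Cfsg.Agent.H76.PsuFour

/-!
# The maximal subgroups of `U₄(3)` miss two classes (helper251, for S3500)
-/

set_option autoImplicit false

namespace Cfsg.Agent.H251.Der

open Subgroup Cfsg Matrix Cfsg.Agent.H396 Cfsg.Agent.OrdDiv Cfsg.Agent.H251.Small Cfsg.Agent.H439.Der
open Cfsg.Agent.LieClassical.HermSiegel Cfsg.Agent.LieClassical.SUBasic Cfsg.Agent.LieClassical.HermBasic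
open Cfsg.Agent.H372

namespace UNine

variable {F : Type*} [Field F]

def N1 (i : F) : Matrix (Fin 4) (Fin 4) F :=
  !![-1, 1, 0, 1 - i; -1 - i, 1 + i, 1 - i, 1; 1 + i, -1 - i, 1 - i, -1; 1 + i, 1 + i, 0, 0]
def N2 (i : F) : Matrix (Fin 4) (Fin 4) F :=
  !![-1 - i, -1 + i, 1 - i, i; 1, 1 - i, -1 + i, 1 - i; 0, 1 + i, 1 + i, 0; -1, 1, -1, i]
def N3 (i : F) : Matrix (Fin 4) (Fin 4) F :=
  !![1 - i, 0, 0, -1 - i; 0, 1, 0, 0; 0, 0, 1, 0; 1 - i, 0, 0, 1 + i]
def N6 (i : F) : Matrix (Fin 4) (Fin 4) F :=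
  !![1 + i, 0, 0, 1 + i; 0, 1, 0, 0; 0, 0, 1, 0; -1 + i, 0, 0, 1 - i]

variable {i : F} (hi : i * i = -1) (h3 : (3 : F) = 0)

include hi h3

theorem e2 : N1 i * N1 i = N2 i := by
  ext a b
  fin_cases a <;> fin_cases b <;> simp [N1, N2, Matrix.mul_apply, Fin.sum_univ_four] <;> grind

theorem e3 : N2 i * N1 i = N3 i := by
  ext a b
  fin_cases a <;> fin_cases b <;> simp [N1, N2, N3, Matrix.mul_apply, Fin.sum_univ_four] <;> grind

theorem e6 : N3 i * N3 i = N6 i := by
  ext a b
  fin_cases a <;> fin_cases b <;> simp [N3, N6, Matrix.mul_apply, Fin.sum_univ_four] <;> grind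

theorem e9 : N6 i * N3 i = 1 := by
  ext a b
  fin_cases a <;> fin_cases b <;> simp [N3, N6, Matrix.mul_apply, Fin.sum_univ_four] <;> grind

theorem det_eq : (N1 i).det = 1 := by
  rw [N1]
  simp [Matrix.det_succ_row_zero, Fin.sum_univ_succ, Fin.succAbove]
  grind

theorem herm_eq [Fintype F] (hF : Fintype.card F = 3 ^ 2) : (N1 i)ᵀ * (N1 i).map (conj hF) = 1 := by
  have hc : conj hF i = -i := by
    rw [conj_apply, pow_succ, pow_two, hi]; ring
  ext a b
  fin_cases a <;> fin_cases b <;> simp [N1, Matrix.mul_apply, Fin.sum_univ_four, hc] <;> grind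

omit hi h3

/-- **An element of order 9.** -/
theorem exists_nine [Fintype F] (hF : Fintype.card F = 9) : ∃ y : PSU 4 F 3, orderOf y = 9 := by
  have hF' : Fintype.card F = 3 ^ 2 := by rw [hF]; norm_num
  have h3 : (3 : F) = 0 := by
    have h9 : (9 : F) = 0 := by
      have := FiniteField.cast_card_eq_zero F
      rw [hF] at this
      exact_mod_cast this
    have : (3 : F) * 3 = 0 := by rw [← h9]; norm_num
    rcases mul_eq_zero.1 this with h | h <;> exact h
  obtain ⟨i, hi⟩ : ∃ i : F, i * i = -1 := by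
    have := (FiniteField.isSquare_neg_one_iff (F := F)).2 (by rw [hF]; norm_num)
    obtain ⟨r, hr⟩ := this
    exact ⟨r, hr.symm⟩
  let x : SU 4 F 3 := mkSU (N1 i) (det_eq hi h3) (herm_of_mul hF' (herm_eq hi h3 hF'))
  have hxm : mat x = N1 i := rfl
  have hx2 : mat (x ^ 2) = N2 i := by rw [mat_pow, hxm, pow_two, e2 hi h3]
  have hx3 : mat (x ^ 3) = N3 i := by
    have : x ^ 3 = x ^ 2 * x := by rw [← pow_succ]
    rw [this, mat_mul, hx2, hxm, e3 hi h3]
  have hx6 : mat (x ^ 6) = N6 i := by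
    have : x ^ 6 = x ^ 3 * x ^ 3 := by rw [← pow_add]
    rw [this, mat_mul, hx3, e6 hi h3]
  have hx9 : x ^ 9 = 1 := by
    apply mat_injective
    have : x ^ 9 = x ^ 6 * x ^ 3 := by rw [← pow_add]
    rw [this, mat_mul, hx6, hx3, e9 hi h3, mat_one]
  have hi0 : i ≠ 0 := by
    rintro rfl
    rw [mul_zero] at hi
    exact one_ne_zero (neg_eq_zero.1 hi.symm)
  have n3 : x ^ 3 ∉ center (SU 4 F 3) := by
    apply su_not_mem_center_of_diag hF' (by norm_num) (i := 0) (j := 1)
    rw [hx3]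
    simp [N3, hi0]
  refine ⟨QuotientGroup.mk x, ?_⟩
  have q9 : (QuotientGroup.mk x : PSU 4 F 3) ^ 9 = 1 := by
    rw [← QuotientGroup.mk_pow, hx9, QuotientGroup.mk_one]
  have q3 : (QuotientGroup.mk x : PSU 4 F 3) ^ 3 ≠ 1 := by
    rw [← QuotientGroup.mk_pow, Ne, QuotientGroup.eq_one_iff]
    exact n3
  have h33 : Fact (Nat.Prime 3) := ⟨Nat.prime_three⟩
  have := orderOf_eq_prime_pow (p := 3) (n := 1) (x := (QuotientGroup.mk x : PSU 4 F 3)) (by simpa using q3)
    (by simpa using q9)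
  simpa using this

end UNine

variable {F : Type} [Field F] [Fintype F]

omit [Fintype F] in
theorem two_u43 {M : Subgroup (PSU 4 F 3)} {a b : ℕ} (hab : a ≠ b)
    (ha : ∃ x : PSU 4 F 3, orderOf x = a) (hb : ∃ x : PSU 4 F 3, orderOf x = b) (hMa : ∀ m ∈ M, orderOf m ≠ a)
    (hMb : ∀ m ∈ M, orderOf m ≠ b) : Two (PSU 4 F 3) M := by
  obtain ⟨x, hx⟩ := ha
  obtain ⟨y, hy⟩ := hb
  exact Two.of_orders hab hx hy hMa hMb

theorem data_u43 (OT : OrderTable.{0})
    (hS : ∀ (X : Type) [Group X] [Finite X] [IsSimpleGroup X], Cfsg.IsKnownSimple' X)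
    (hF : Fintype.card F = 3 ^ 2) :
    H970.StabNum.Data (PSU 4 F 3) [(5, 1, 4), (7, 1, 3)] [2, 3, 5, 7] tbl43 := by
  have h9 : Fintype.card F = 9 := by rw [hF]; norm_num
  have hcard := H844.USeven.card_psu h9
  have hv : valid [(2, 7), (3, 6), (5, 1), (7, 1)] 3265920 = true := by decide +kernel
  refine H970.TwoSpor.mk_data OT hS hcard hv (by decide +kernel) ?_ ?_ (by decide +kernel) ?_
  · intro x hx
    simp only [List.mem_cons, List.not_mem_nil, or_false] at hx
    rcases hx with rfl | rfl <;> norm_num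
  · intro r hr
    simp only [List.mem_cons, List.not_mem_nil, or_false] at hr
    rcases hr with rfl | rfl | rfl | rfl <;> norm_num
  · intro x hx P hP
    simp only [List.mem_cons, List.not_mem_nil, or_false] at hx
    rcases hx with rfl | rfl
    · refine cent_norm (by norm_num) (by rw [hcard]; norm_num) (selfcent5_u43 hF) ?_ P hP
      intro m hm _ _
      exact hm
    · refine cent_norm (by norm_num) (by rw [hcard]; norm_num) (selfcent7_u43 hF) ?_ P hP
      intro m hm _ hmod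
      rw [hcard] at hmod
      have h1 : m ∈ Nat.divisors 6 := Nat.mem_divisors.2 ⟨hm, by norm_num⟩
      rw [show Nat.divisors 6 = {1, 2, 3, 6} by decide] at h1
      simp only [Finset.mem_insert, Finset.mem_singleton] at h1
      rcases h1 with rfl | rfl | rfl | rfl
      · norm_num at hmod
      · norm_num at hmod
      · norm_num
      · norm_num at hmod

theorem le_u43 (hF : Fintype.card F = 3 ^ 2) {M : Subgroup (PSU 4 F 3)} (hM : M ≠ ⊤) (h : Nat.card M ≠ 40320) :
    Nat.card M ≤ 29160 := by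
  have h9 : Fintype.card F = 9 := by rw [hF]; norm_num
  have hcard := H844.USeven.card_psu h9
  have h1 := M.card_mul_index
  rw [hcard] at h1
  have h2 := Cfsg.Agent.H76.PsuFour.psu_four_lower 3 hF (by norm_num) M hM (by
    rintro ⟨-, h3⟩
    rw [h3] at h1
    apply h
    omega)
  norm_num at h2
  nlinarith

/-- **7 is missing** -/
theorem seven_u43 (OT : OrderTable.{0})
    (hS : ∀ (X : Type) [Group X] [Finite X] [IsSimpleGroup X], Cfsg.IsKnownSimple' X)
    (hF : Fintype.card F = 3 ^ 2) (M : Subgroup (PSU 4 F 3)) (hM : M ≠ ⊤) (h5 : 5 ∣ Nat.card M)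
    (h7 : ¬ 7 ∣ Nat.card M) {u v : M} (hu : orderOf u = 8) (hv : orderOf v = 9) : False := by
  have h9 : Fintype.card F = 9 := by rw [hF]; norm_num
  have hcard := H844.USeven.card_psu h9
  have D := data_u43 OT hS hF
  have hle := le_u43 hF hM (fun h => h7 (by rw [h]; norm_num))
  have hd8 : 8 ∣ Nat.card M := hu ▸ orderOf_dvd_natCard u
  have hd9 : 9 ∣ Nat.card M := hv ▸ orderOf_dvd_natCard v
  have := D.fin
  obtain ⟨L, hLn, R, hRn, P, hP, hPL, hs, hcH, hmem, hna⟩ := exists_trip D M (p := 5) (k := 1) (M := 4) (by simp) h5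
    (l := [(2, 7), (3, 6), (5, 1), (7, 1)]) (by rw [hcard]; decide +kernel)
    (fun h => Nat.beq (h % 72) 0 && Nat.ble h 29160 && !(Nat.beq (h % 7) 0)) (by
      rw [Bool.and_eq_true, Bool.and_eq_true, Nat.beq_eq, Nat.ble_eq, Bool.not_eq_true', ← Bool.not_eq_true, Nat.beq_eq]
      omega)
  rw [show trip 5 1 4 [2, 3, 5, 7] tbl43 [(2, 7), (3, 6), (5, 1), (7, 1)]
    (fun h => Nat.beq (h % 72) 0 && Nat.ble h 29160 && !(Nat.beq (h % 7) 0)) =
    [(360, 1, 360), (9720, 2, 60), (29160, 1, 360), (720, 2, 360), (6480, 1, 5), (12960, 2, 5), (25920, 1, 25920),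
      (25920, 4, 5), (5760, 1, 360)] by decide +kernel] at hmem
  simp only [List.mem_cons, List.not_mem_nil, or_false, Prod.mk.injEq] at hmem
  have hsn : Nat.card (L ⧸ R) ≠ 5 → ¬ ∀ x y : L ⧸ R, x * y = y * x := fun h => hna.resolve_left h
  have h360 : Nat.card (L ⧸ R) = 360 → ∀ z : L ⧸ R, orderOf z ≠ 8 ∧ orderOf z ≠ 9 := by
    intro h z
    have := ord_360 OT hS (hsn (by rw [h]; norm_num)) h z
    simp only [List.mem_cons, List.not_mem_nil, or_false] at this
    omega
  have h60 : Nat.card (L ⧸ R) = 60 → ∀ z : L ⧸ R, orderOf z ≠ 4 := by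
    intro h z
    have := ord_60 OT hS (hsn (by rw [h]; norm_num)) h z
    simp only [List.mem_cons, List.not_mem_nil, or_false] at this
    omega
  have h25920 : Nat.card (L ⧸ R) = 25920 → ∀ z : L ⧸ R, orderOf z ≠ 8 := by
    intro h z
    have := ord_25920 OT hS (hsn (by rw [h]; norm_num)) h z
    simp only [List.mem_cons, List.not_mem_nil, or_false] at this
    omega
  have hR5 : Nat.card R = 1296 → Nat.Coprime 9 L.index → Nat.card (L ⧸ R) = 5 → False := by
    intro hR hc hs5
    refine no_pow D (p := 5) (M := 4) (by simp) hP hPL (by rw [hR]; norm_num) (r := 3) (k := 4) Nat.prime_three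
      (fac_eq (m := 16) Nat.prime_three (by rw [hR]; norm_num) (by norm_num)) ?_ (i := 2) le_rfl
      (by norm_num; exact hc) (by rw [hs5]; norm_num) (hv.trans (by norm_num))
    intro j h1 h2
    interval_cases j <;> decide
  rcases hmem with ⟨e1, e2, e3⟩ | ⟨e1, e2, e3⟩ | ⟨e1, e2, e3⟩ | ⟨e1, e2, e3⟩ | ⟨e1, e2, e3⟩ | ⟨e1, e2, e3⟩ |
    ⟨e1, e2, e3⟩ | ⟨e1, e2, e3⟩ | ⟨e1, e2, e3⟩
  · rw [e1, e2, e3] at hcH
    obtain ⟨z, hz⟩ := exists_sec (R := R) hv (by rw [e2]; norm_num) (by rw [show Nat.card R = 1 by omega]; norm_num)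
    exact (h360 e3 z).2 hz
  · rw [e1, e2, e3] at hcH
    obtain ⟨z, hz⟩ := exists_sec_pow (R := R) (n := 4) hu e2 (by norm_num) (by norm_num)
      (by rw [show Nat.card R = 81 by omega]; norm_num)
    exact h60 e3 z hz
  · rw [e1, e2, e3] at hcH
    obtain ⟨z, hz⟩ := exists_sec (R := R) hu (by rw [e2]; norm_num) (by rw [show Nat.card R = 81 by omega]; norm_num)
    exact (h360 e3 z).1 hz
  · rw [e1, e2, e3] at hcH
    obtain ⟨z, hz⟩ := exists_sec (R := R) hv (by rw [e2]; norm_num) (by rw [show Nat.card R = 1 by omega]; norm_num)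
    exact (h360 e3 z).2 hz
  · rw [e1, e2, e3] at hcH
    exact hR5 (by omega) (by rw [e2]; norm_num) e3
  · rw [e1, e2, e3] at hcH
    exact hR5 (by omega) (by rw [e2]; norm_num) e3
  · rw [e1, e2, e3] at hcH
    obtain ⟨z, hz⟩ := exists_sec (R := R) hu (by rw [e2]; norm_num) (by rw [show Nat.card R = 1 by omega]; norm_num)
    exact h25920 e3 z hz
  · rw [e1, e2, e3] at hcH
    exact hR5 (by omega) (by rw [e2]; norm_num) e3
  · rw [e1, e2, e3] at hcH
    obtain ⟨z, hz⟩ := exists_sec (R := R) hv (by rw [e2]; norm_num) (by rw [show Nat.card R = 16 by omega]; norm_num)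
    exact (h360 e3 z).2 hz

/-- **5 is missing** -/
theorem five_u43 (OT : OrderTable.{0})
    (hS : ∀ (X : Type) [Group X] [Finite X] [IsSimpleGroup X], Cfsg.IsKnownSimple' X)
    (hF : Fintype.card F = 3 ^ 2) (M : Subgroup (PSU 4 F 3)) (hM : M ≠ ⊤) (h5 : ¬ 5 ∣ Nat.card M)
    (h7 : 7 ∣ Nat.card M) {v : M} (hv : orderOf v = 9) : False := by
  have h9 : Fintype.card F = 9 := by rw [hF]; norm_num
  have hcard := H844.USeven.card_psu h9
  have D := data_u43 OT hS hF
  have hle := le_u43 hF hM (fun h => h5 (by rw [h]; norm_num))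
  have hd9 : 9 ∣ Nat.card M := hv ▸ orderOf_dvd_natCard v
  have := D.fin
  obtain ⟨L, hLn, R, hRn, P, hP, hPL, hs, hcH, hmem, hna⟩ := exists_trip D M (p := 7) (k := 1) (M := 3) (by simp) h7
    (l := [(2, 7), (3, 6), (5, 1), (7, 1)]) (by rw [hcard]; decide +kernel)
    (fun h => Nat.beq (h % 9) 0 && Nat.ble h 29160 && !(Nat.beq (h % 5) 0)) (by
      rw [Bool.and_eq_true, Bool.and_eq_true, Nat.beq_eq, Nat.ble_eq, Bool.not_eq_true', ← Bool.not_eq_true, Nat.beq_eq]
      omega)
  rw [show trip 7 1 3 [2, 3, 5, 7] tbl43 [(2, 7), (3, 6), (5, 1), (7, 1)]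
    (fun h => Nat.beq (h % 9) 0 && Nat.ble h 29160 && !(Nat.beq (h % 5) 0)) =
    [(5103, 1, 7), (6048, 1, 6048)] by decide +kernel] at hmem
  simp only [List.mem_cons, List.not_mem_nil, or_false, Prod.mk.injEq] at hmem
  rcases hmem with ⟨e1, e2, e3⟩ | ⟨e1, e2, e3⟩
  · rw [e1, e2, e3] at hcH
    have hR : Nat.card R = 729 := by omega
    refine no_pow D (p := 7) (M := 3) (by simp) hP hPL (by rw [hR]; norm_num) (r := 3) (k := 6) Nat.prime_three
      (fac_eq (m := 1) Nat.prime_three (by rw [hR]; norm_num) (by norm_num)) ?_ (i := 2) le_rfl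
      (by rw [e2]; norm_num) (by rw [e3]; norm_num) (hv.trans (by norm_num))
    intro j h1 h2
    interval_cases j <;> decide
  · rw [e1, e2, e3] at hcH
    obtain ⟨z, hz⟩ := exists_sec (R := R) hv (by rw [e2]; norm_num) (by rw [show Nat.card R = 1 by omega]; norm_num)
    have h1 := ord_6048 OT hS (hna.resolve_left (by rw [e3]; norm_num)) e3 z
    rw [hz] at h1
    simp at h1

theorem row_u43 (OT : OrderTable.{0})
    (hS : ∀ (X : Type) [Group X] [Finite X] [IsSimpleGroup X], Cfsg.IsKnownSimple' X)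
    (hF : Fintype.card F = 3 ^ 2) : Row (PSU 4 F 3) := by
  intro M hM'
  have hM := hM'.1
  left
  have h9 : Fintype.card F = 9 := by rw [hF]; norm_num
  have hcard := H844.USeven.card_psu h9
  have : Finite (PSU 4 F 3) := Nat.finite_of_card_ne_zero (by rw [hcard]; norm_num)
  have h2' : (2 : F) ≠ 0 := by
    intro h
    have h9' : (9 : F) = 0 := by
      have := FiniteField.cast_card_eq_zero F
      rw [h9] at this
      exact_mod_cast this
    exact one_ne_zero (α := F) (by linear_combination h9' - 4 * h)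
  have E8 : ∃ x : PSU 4 F 3, orderOf x = 8 := exists_eight_psu_odd hF h2' (by norm_num)
  have E9 := UNine.exists_nine h9
  have h5p : Fact (Nat.Prime 5) := ⟨by norm_num⟩
  have h7p : Fact (Nat.Prime 7) := ⟨by norm_num⟩
  have E5 : ∃ x : PSU 4 F 3, orderOf x = 5 := exists_prime_orderOf_dvd_card' 5 (by rw [hcard]; norm_num)
  have E7 : ∃ x : PSU 4 F 3, orderOf x = 7 := exists_prime_orderOf_dvd_card' 7 (by rw [hcard]; norm_num)
  have hno : ∀ n, ¬ n ∣ Nat.card M → ∀ m ∈ M, orderOf m ≠ n := by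
    intro n hn m hm h
    apply hn
    have := orderOf_dvd_natCard (⟨m, hm⟩ : M)
    rwa [Subgroup.orderOf_mk, h] at this
  by_cases h5 : 5 ∣ Nat.card M
  · by_cases h7 : 7 ∣ Nat.card M
    · rcases pgap_u43 OT hS hF M hM with hp | ⟨⟨e⟩⟩ | ⟨K, _, _, hK, ⟨e⟩⟩
      · -- a prime missing: 2 or 3
        obtain ⟨r, hr, hr1, hr2⟩ := hp
        have hr3 : r = 2 ∨ r = 3 := by
          rw [hcard] at hr1
          have h1 : r ∈ Nat.primeFactors 3265920 := Nat.mem_primeFactors.2 ⟨hr, hr1, by norm_num⟩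
          rw [show (3265920 : ℕ) = 2 ^ 7 * 3 ^ 6 * 5 * 7 by norm_num] at h1
          rw [Nat.mem_primeFactors] at h1
          obtain ⟨-, h1, -⟩ := h1
          rcases (Nat.Prime.dvd_mul hr).1 h1 with h1 | h1
          · rcases (Nat.Prime.dvd_mul hr).1 h1 with h1 | h1
            · rcases (Nat.Prime.dvd_mul hr).1 h1 with h1 | h1
              · exact Or.inl ((Nat.prime_dvd_prime_iff_eq hr Nat.prime_two).1 (hr.dvd_of_dvd_pow h1))
              · exact Or.inr ((Nat.prime_dvd_prime_iff_eq hr Nat.prime_three).1 (hr.dvd_of_dvd_pow h1))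
            · rw [(Nat.prime_dvd_prime_iff_eq hr h5p.out).1 h1] at hr2
              exact absurd h5 hr2
          · rw [(Nat.prime_dvd_prime_iff_eq hr h7p.out).1 h1] at hr2
            exact absurd h7 hr2
        rcases hr3 with rfl | rfl
        · refine Two.of_not_dvd hr2 ?_
          obtain ⟨x, hx⟩ := E8
          exact not_SC_of_orderOf Nat.prime_two (y := x) (by rw [hx]; norm_num) (by rw [hx]; norm_num)
        · refine Two.of_not_dvd hr2 ?_
          obtain ⟨x, hx⟩ := E9
          exact not_SC_of_orderOf Nat.prime_three (y := x) (by rw [hx]; norm_num) (by rw [hx]; norm_num)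
      · have h1 := mem_of_equiv e alt_seven
        refine two_u43 (by norm_num) E8 E9 ?_ ?_
        · intro m hm h
          have := h1 ⟨m, hm⟩
          rw [Subgroup.orderOf_mk, h] at this
          simp at this
        · intro m hm h
          have := h1 ⟨m, hm⟩
          rw [Subgroup.orderOf_mk, h] at this
          simp at this
      · have h1 := mem_of_equiv e (l34 hK)
        refine two_u43 (by norm_num) E8 E9 ?_ ?_
        · intro m hm h
          have := h1 ⟨m, hm⟩
          rw [Subgroup.orderOf_mk, h] at this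
          simp at this
        · intro m hm h
          have := h1 ⟨m, hm⟩
          rw [Subgroup.orderOf_mk, h] at this
          simp at this
    · by_cases hu : ∃ u : M, orderOf u = 8
      · by_cases hv : ∃ v : M, orderOf v = 9
        · obtain ⟨u, hu⟩ := hu
          obtain ⟨v, hv⟩ := hv
          exact (seven_u43 OT hS hF M hM h5 h7 hu hv).elim
        · push Not at hv
          refine two_u43 (by norm_num) E7 E9 (hno 7 h7) ?_
          intro m hm h
          exact hv ⟨m, hm⟩ (by rw [Subgroup.orderOf_mk, h])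
      · push Not at hu
        refine two_u43 (by norm_num) E7 E8 (hno 7 h7) ?_
        intro m hm h
        exact hu ⟨m, hm⟩ (by rw [Subgroup.orderOf_mk, h])
  · by_cases h7 : 7 ∣ Nat.card M
    · refine two_u43 (by norm_num) E5 E9 (hno 5 h5) ?_
      intro m hm h
      exact five_u43 OT hS hF M hM h5 h7 (v := ⟨m, hm⟩) (by rw [Subgroup.orderOf_mk, h])
    · exact two_u43 (by norm_num) E5 E7 (hno 5 h5) (hno 7 h7)

end Cfsg.Agent.H251.Der
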