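import Cfsg.Agent.H918.URed
import Cfsg.Agent.H957.UFrame
import Cfsg.Agent.H251.Small.U5

/-!
# Elements of order 9 in `SU_n(2)` (helper251, for S3500)

`tri x v` : the span of `v`, `x v`, `x² v`; for `x³ v = μ v`, `μ ≠ 0, 1`, it has dimension 3 and no
proper `x`-invariant subspaces.
-/

set_option autoImplicit false

namespace Cfsg.Agent.H251.Der.Geo

open Cfsg Matrix Module
open Cfsg.Agent.LieClassical.HermBasic Cfsg.Agent.LieClassical.HermSiegel Cfsg.Agent.LieClassical.SUBasic
open Cfsg.Agent.H918 (hperp mem_hperp finrank_hperp_ge)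

variable {F : Type*} [Field F] [Fintype F] {n : ℕ}

theorem cube (hF : Fintype.card F = 2 ^ 2) {c : F} (hc : c ≠ 0) : c ^ 3 = 1 := by
  have := FiniteField.pow_card_sub_one_eq_one c hc
  rwa [hF] at this

theorem two_eq (hF : Fintype.card F = 2 ^ 2) : (2 : F) = 0 := by
  obtain ⟨w, -, -, -, -, h⟩ := H251.Small.exists_omega hF
  exact h

theorem mu_rel (hF : Fintype.card F = 2 ^ 2) {μ : F} (h0 : μ ≠ 0) (h1 : μ ≠ 1) : 1 + μ + μ ^ 2 = 0 := by
  have h := cube hF h0
  have h2 : (μ - 1) * (1 + μ + μ ^ 2) = 0 := by linear_combination h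
  exact (mul_eq_zero.1 h2).resolve_left (sub_ne_zero.2 h1)

/-- the norm form of the cubic extension -/
theorem norm3 (hF : Fintype.card F = 2 ^ 2) {μ a b c : F} (h0 : μ ≠ 0) (h1 : μ ≠ 1)
    (h : a ^ 3 + μ * b ^ 3 + μ ^ 2 * c ^ 3 + μ * a * b * c = 0) : a = 0 ∧ b = 0 ∧ c = 0 := by
  have hr := mu_rel hF h0 h1
  have h2 := two_eq hF
  have hμ2 : μ ^ 2 ≠ 0 := pow_ne_zero _ h0
  have h3 := cube hF h0
  by_cases ha : a = 0 <;> by_cases hb : b = 0 <;> by_cases hc : c = 0
  · exact ⟨ha, hb, hc⟩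
  · exfalso
    have := cube hF hc
    subst ha hb
    apply hμ2
    linear_combination h - μ ^ 2 * this
  · exfalso
    have := cube hF hb
    subst ha hc
    apply h0
    linear_combination h - μ * this
  · exfalso
    have e1 := cube hF hb
    have e2 := cube hF hc
    subst ha
    apply one_ne_zero (α := F)
    linear_combination hr - h + μ * e1 + μ ^ 2 * e2
  · exfalso
    have := cube hF ha
    subst hb hc
    apply one_ne_zero (α := F)
    linear_combination h - this
  · exfalso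
    have e1 := cube hF ha
    have e2 := cube hF hc
    subst hb
    apply h0
    linear_combination hr - h + e1 + μ ^ 2 * e2
  · exfalso
    have e1 := cube hF ha
    have e2 := cube hF hb
    subst hc
    apply hμ2
    linear_combination hr - h + e1 + μ * e2
  · exfalso
    have e1 := cube hF ha
    have e2 := cube hF hb
    have e3 := cube hF hc
    have : μ * a * b * c = 0 := by linear_combination h - hr - e1 - μ * e2 - μ ^ 2 * e3
    exact mul_ne_zero (mul_ne_zero (mul_ne_zero h0 ha) hb) hc this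

/-- the linear map -/
def actL {q : ℕ} (g : SU n F q) : (Fin n → F) →ₗ[F] (Fin n → F) where
  toFun := act g
  map_add' := act_add g
  map_smul' := fun c v => act_smul g c v

omit [Fintype F] in
@[simp] theorem actL_apply {q : ℕ} (g : SU n F q) (v : Fin n → F) : actL g v = act g v := rfl

theorem indep (hF : Fintype.card F = 2 ^ 2) {x : SU n F 2} {μ : F} {v : Fin n → F} (h0 : μ ≠ 0) (h1 : μ ≠ 1)
    (hv : v ≠ 0) (hx : act x (act x (act x v)) = μ • v) {a b c : F}
    (h : a • v + b • act x v + c • act x (act x v) = 0) : a = 0 ∧ b = 0 ∧ c = 0 := by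
  have e1 : a • act x v + b • act x (act x v) + (c * μ) • v = 0 := by
    have := congrArg (act x) h
    rw [act_add, act_add, act_smul, act_smul, act_smul, act_zero, hx, smul_smul] at this
    exact this
  have e2 : a • act x (act x v) + (b * μ) • v + (c * μ) • act x v = 0 := by
    have := congrArg (act x) e1
    rw [act_add, act_add, act_smul, act_smul, act_smul, act_zero, hx, smul_smul] at this
    exact this
  apply norm3 hF h0 h1
  have h2 := two_eq hF
  have e3 : (a ^ 3 + μ * b ^ 3 + μ ^ 2 * c ^ 3 + μ * a * b * c) • v = 0 := by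
    funext i
    have f0 := congrFun h i
    have f1 := congrFun e1 i
    have f2 := congrFun e2 i
    simp only [Pi.add_apply, Pi.smul_apply, smul_eq_mul, Pi.zero_apply] at f0 f1 f2 ⊢
    linear_combination (a ^ 2 - μ * b * c) * f0 + (μ * c ^ 2 - a * b) * f1 + (b ^ 2 - a * c) * f2 +
      2 * μ * a * b * c * v i * h2
  exact (smul_eq_zero.1 e3).resolve_right hv

/-- the span of `v`, `x v`, `x² v` -/
def tri {q : ℕ} (x : SU n F q) (v : Fin n → F) : Submodule F (Fin n → F) :=
  Submodule.span F {v, act x v, act x (act x v)}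

omit [Fintype F] in
theorem mem_tri {q : ℕ} {x : SU n F q} {v w : Fin n → F} :
    w ∈ tri x v ↔ ∃ a b c : F, a • v + b • act x v + c • act x (act x v) = w := by
  unfold tri
  exact Submodule.mem_span_triple

omit [Fintype F] in
theorem self_mem_tri {q : ℕ} (x : SU n F q) (v : Fin n → F) : v ∈ tri x v :=
  mem_tri.2 ⟨1, 0, 0, by simp⟩

omit [Fintype F] in
theorem tri_le {q : ℕ} {x : SU n F q} {v : Fin n → F} {W : Submodule F (Fin n → F)} (hv : v ∈ W)
    (hW : ∀ w ∈ W, act x w ∈ W) : tri x v ≤ W := by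
  intro w hw
  obtain ⟨a, b, c, rfl⟩ := mem_tri.1 hw
  exact W.add_mem (W.add_mem (W.smul_mem _ hv) (W.smul_mem _ (hW _ hv))) (W.smul_mem _ (hW _ (hW _ hv)))

omit [Fintype F] in
theorem tri_inv {q : ℕ} {x : SU n F q} {μ : F} {v : Fin n → F} (hx : act x (act x (act x v)) = μ • v) :
    ∀ w ∈ tri x v, act x w ∈ tri x v := by
  intro w hw
  obtain ⟨a, b, c, rfl⟩ := mem_tri.1 hw
  refine mem_tri.2 ⟨c * μ, a, b, ?_⟩
  rw [act_add, act_add, act_smul, act_smul, act_smul, hx, smul_smul]
  abel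

omit [Fintype F] in
theorem tri_eig {q : ℕ} {x : SU n F q} {μ : F} {v : Fin n → F} (hx : act x (act x (act x v)) = μ • v) :
    ∀ w ∈ tri x v, act x (act x (act x w)) = μ • w := by
  intro w hw
  obtain ⟨a, b, c, rfl⟩ := mem_tri.1 hw
  simp only [act_add, act_smul, hx, smul_add]
  rw [smul_comm μ a, smul_comm μ b, smul_comm μ c]

theorem finrank_tri (hF : Fintype.card F = 2 ^ 2) {x : SU n F 2} {μ : F} {v : Fin n → F} (h0 : μ ≠ 0) (h1 : μ ≠ 1)
    (hv : v ≠ 0) (hx : act x (act x (act x v)) = μ • v) : finrank F (tri x v) = 3 := by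
  have hli : LinearIndependent F ![v, act x v, act x (act x v)] := by
    rw [Fintype.linearIndependent_iff]
    intro g hg
    rw [Fin.sum_univ_three] at hg
    obtain ⟨e0, e1, e2⟩ := indep hF h0 h1 hv hx (a := g 0) (b := g 1) (c := g 2) hg
    intro i
    fin_cases i
    · exact e0
    · exact e1
    · exact e2
  have h2 : tri x v = Submodule.span F (Set.range ![v, act x v, act x (act x v)]) := by
    unfold tri
    congr 1
    ext w
    simp [eq_comm]
    tauto
  rw [h2, finrank_span_eq_card hli, Fintype.card_fin]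

theorem tri_eq (hF : Fintype.card F = 2 ^ 2) {x : SU n F 2} {μ : F} {v w : Fin n → F} (h0 : μ ≠ 0) (h1 : μ ≠ 1)
    (hv : v ≠ 0) (hx : act x (act x (act x v)) = μ • v) (hw : w ∈ tri x v) (hw0 : w ≠ 0) : tri x w = tri x v := by
  apply Submodule.eq_of_le_of_finrank_eq (tri_le hw (tri_inv hx))
  rw [finrank_tri hF h0 h1 hv hx, finrank_tri hF h0 h1 hw0 (tri_eig hx w hw)]

/-- an `x`-invariant subspace contains `tri x v` or meets it trivially -/
theorem tri_le_or (hF : Fintype.card F = 2 ^ 2) {x : SU n F 2} {μ : F} {v : Fin n → F} (h0 : μ ≠ 0) (h1 : μ ≠ 1)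
    (hv : v ≠ 0) (hx : act x (act x (act x v)) = μ • v) {W : Submodule F (Fin n → F)}
    (hW : ∀ w ∈ W, act x w ∈ W) : tri x v ≤ W ∨ ∀ w ∈ tri x v, w ∈ W → w = 0 := by
  by_cases h : ∀ w ∈ tri x v, w ∈ W → w = 0
  · exact Or.inr h
  · push Not at h
    obtain ⟨w, hw, hwW, hw0⟩ := h
    left
    rw [← tri_eq hF h0 h1 hv hx hw hw0]
    exact tri_le hwW hW

/-- an eigenvector of `x³` with eigenvalue `≠ 1` -/
theorem exists_eig (hF : Fintype.card F = 2 ^ 2) {x : SU n F 2} (h9 : x ^ 9 = 1) (h3 : x ^ 3 ≠ 1) :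
    ∃ (μ : F) (v : Fin n → F), μ ≠ 0 ∧ μ ≠ 1 ∧ v ≠ 0 ∧ act x (act x (act x v)) = μ • v := by
  obtain ⟨w, hw3, hw1, hw0, hww, h2⟩ := H251.Small.exists_omega hF
  set z := x ^ 3 with hz
  have hz3 : ∀ v, act z (act z (act z v)) = v := by
    intro v
    rw [← act_mul, ← act_mul, hz, ← pow_add, ← pow_add, h9, act_one]
  have hzx : ∀ v, act x (act x (act x v)) = act z v := by
    intro v
    rw [hz, pow_succ, pow_two, act_mul, act_mul]
  have hz1 : ∃ v, act z v ≠ v := by
    by_contra hcon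
    push Not at hcon
    exact h3 (ext_act fun v => by rw [hcon v, act_one])
  obtain ⟨v, hv⟩ := hz1
  have key : ∀ μ : F, μ ^ 3 = 1 → act z (act z (act z v) + μ • act z v + μ ^ 2 • v) =
      μ • (act z (act z v) + μ • act z v + μ ^ 2 • v) := by
    intro μ hμ
    rw [act_add, act_add, act_smul, act_smul, hz3, smul_add, smul_add, smul_smul, smul_smul, ← pow_succ', ← pow_two,
      hμ, one_smul]
    abel
  have hw23 : (w ^ 2) ^ 3 = 1 := by rw [← pow_mul, mul_comm, pow_mul, hw3, one_pow]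
  have hw2 : w ^ 2 ≠ 1 := by
    intro h
    apply hw0
    linear_combination h - hww
  by_cases c1 : act z (act z v) + w • act z v + w ^ 2 • v = 0
  · by_cases c2 : act z (act z v) + w ^ 2 • act z v + (w ^ 2) ^ 2 • v = 0
    · exfalso
      apply hv
      funext i
      have f1 := congrFun c1 i
      have f2 := congrFun c2 i
      simp only [Pi.add_apply, Pi.smul_apply, smul_eq_mul, Pi.zero_apply] at f1 f2
      have e4 : w ^ 4 = w := by linear_combination w * hw3
      have e2 : w ^ 2 = w + 1 := by linear_combination hww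
      linear_combination (-1 : F) * f1 + f2 - (act z v i) * e2 + (v i) * e2 - (v i) * e4
    · exact ⟨w ^ 2, _, pow_ne_zero _ hw0, hw2, c2, by rw [hzx, key _ hw23]⟩
  · exact ⟨w, _, hw0, hw1, c1, by rw [hzx, key _ hw3]⟩

/-- fixed vectors of `2`-groups -/
theorem exists_fixed (hF : Fintype.card F = 2 ^ 2) {A : Subgroup (SU n F 2)} (hA : IsPGroup 2 A)
    {U : Submodule F (Fin n → F)} (hU : ∀ a ∈ A, ∀ u ∈ U, act a u ∈ U) (hne : U ≠ ⊥) :
    ∃ u ∈ U, u ≠ 0 ∧ ∀ a ∈ A, act a u = u := by
  have h2p : Fact (Nat.Prime 2) := ⟨Nat.prime_two⟩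
  let inst : MulAction A U :=
    { smul := fun a u => ⟨act (a : SU n F 2) u, hU a a.2 u u.2⟩
      one_smul := fun u => Subtype.ext (act_one _)
      mul_smul := fun a b u => Subtype.ext (act_mul _ _ _) }
  have hmod := hA.card_modEq_card_fixedPoints U
  have hcard : Nat.card U ≡ 0 [MOD 2] := by
    rw [Module.natCard_eq_pow_finrank (K := F), Nat.card_eq_fintype_card, hF]
    have hk : Module.finrank F U ≠ 0 := fun h => hne (Submodule.finrank_eq_zero.1 h)
    obtain ⟨k, hk⟩ := Nat.exists_eq_succ_of_ne_zero hk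
    rw [hk, pow_succ, Nat.modEq_zero_iff_dvd]
    exact Dvd.dvd.mul_left (by norm_num) _
  have h0 : (0 : U) ∈ MulAction.fixedPoints A U := fun a => Subtype.ext (act_zero _)
  by_contra hcon
  push Not at hcon
  have h1 : Nat.card (MulAction.fixedPoints A U) = 1 := by
    rw [Nat.card_eq_one_iff_unique]
    refine ⟨⟨fun a b => ?_⟩, ⟨⟨0, h0⟩⟩⟩
    have key : ∀ a : MulAction.fixedPoints A U, ((a : U) : Fin n → F) = 0 := by
      intro a
      by_contra ha
      obtain ⟨g, hg, hg1⟩ := hcon _ a.1.2 ha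
      exact hg1 (congrArg Subtype.val (a.2 ⟨g, hg⟩))
    apply Subtype.ext
    apply Subtype.ext
    rw [key a, key b]
  rw [h1] at hmod
  have := hmod.symm.trans hcard
  norm_num [Nat.ModEq] at this

/-- the geometry of an element of order 9 in `SU_4(2)` -/
structure Nine (x : SU 4 F 2) (μ : F) (v e : Fin 4 → F) : Prop where
  h0 : μ ≠ 0
  h1 : μ ≠ 1
  hv : v ≠ 0
  hx : act x (act x (act x v)) = μ • v
  he : hermForm 4 F 2 e e ≠ 0
  lam : ∃ c : F, act x e = c • e
  perp : ∀ w, w ∈ tri x v ↔ hermForm 4 F 2 w e = 0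


omit [Fintype F] in
theorem hperp_inv {q : ℕ} {x : SU n F q} {W : Submodule F (Fin n → F)} (hW : ∀ w ∈ W, act x w ∈ W) :
    ∀ w ∈ hperp q W, act x w ∈ hperp q W := by
  intro w hw
  have hsurj : ∀ u ∈ W, ∃ u' ∈ W, act x u' = u := by
    intro u hu
    let f : W →ₗ[F] W := ((actL x).comp W.subtype).codRestrict W fun w => hW w w.2
    have hinj : Function.Injective f := by
      intro a b hab
      have : act x a = act x b := congrArg Subtype.val hab
      exact Subtype.ext (act_injective x this)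
    obtain ⟨u', hu'⟩ := (LinearMap.injective_iff_surjective.1 hinj) ⟨u, hu⟩
    exact ⟨u', u'.2, congrArg Subtype.val hu'⟩
  rw [mem_hperp] at hw ⊢
  intro u hu
  obtain ⟨u', hu', rfl⟩ := hsurj u hu
  rw [herm_act]
  exact hw u' hu'

theorem tri_inf_hperp (hF : Fintype.card F = 2 ^ 2) (hn : n ≤ 5) {x : SU n F 2} {μ : F} {v : Fin n → F} (h0 : μ ≠ 0)
    (h1 : μ ≠ 1) (hv : v ≠ 0) (hx : act x (act x (act x v)) = μ • v) : tri x v ⊓ hperp 2 (tri x v) = ⊥ := by
  rcases tri_le_or hF h0 h1 hv hx (hperp_inv (tri_inv hx)) with h | h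
  · exfalso
    have h2 := Cfsg.Agent.H957.Uni.two_mul_finrank_le hF (W := tri x v) fun u hu w hw => (mem_hperp.1 (h hu)) w hw
    rw [finrank_tri hF h0 h1 hv hx] at h2
    omega
  · rw [eq_bot_iff]
    intro w hw
    exact h w hw.1 hw.2

theorem exists_nine (hF : Fintype.card F = 2 ^ 2) {x : SU 4 F 2} (h9 : x ^ 9 = 1) (h3 : x ^ 3 ≠ 1) :
    ∃ (μ : F) (v e : Fin 4 → F), Nine x μ v e := by
  obtain ⟨μ, v, h0, h1, hv, hx⟩ := exists_eig hF h9 h3
  have hinf := tri_inf_hperp hF (by norm_num) h0 h1 hv hx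
  obtain ⟨-, -, htop, hsum⟩ := Cfsg.Agent.H918.nondegenerate_of_inf_eq_bot hF hinf
  rw [finrank_tri hF h0 h1 hv hx] at hsum
  have hone : finrank F (hperp 2 (tri x v)) = 1 := by omega
  obtain ⟨e, he0, he⟩ := finrank_eq_one_iff'.1 hone
  have heP := e.2
  have hall : ∀ u ∈ hperp 2 (tri x v), ∃ c : F, u = c • (e : Fin 4 → F) := by
    intro u hu
    obtain ⟨c, hc⟩ := he ⟨u, hu⟩
    exact ⟨c, (congrArg Subtype.val hc).symm⟩
  have hdec : ∀ u : Fin 4 → F, ∃ w ∈ tri x v, ∃ c : F, u = w + c • (e : Fin 4 → F) := by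
    intro u
    obtain ⟨w, hw, y, hy, rfl⟩ := Submodule.mem_sup.1 (show u ∈ tri x v ⊔ hperp 2 (tri x v) by
      rw [htop]; exact Submodule.mem_top)
    obtain ⟨c, rfl⟩ := hall y hy
    exact ⟨w, hw, c, rfl⟩
  have hee : hermForm 4 F 2 e e ≠ 0 := by
    intro h
    apply he0
    apply Subtype.ext
    by_contra hne
    obtain ⟨u, hu⟩ := exists_herm_ne_zero hF hne
    obtain ⟨w, hw, c, rfl⟩ := hdec u
    apply hu
    rw [herm_add_right hF, herm_smul_right, (mem_hperp.1 heP) w hw, h, mul_zero, add_zero]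
  refine ⟨μ, v, e, ⟨h0, h1, hv, hx, hee, hall _ (hperp_inv (tri_inv hx) _ heP), ?_⟩⟩
  intro w
  constructor
  · intro hw
    exact herm_eq_zero_swap hF ((mem_hperp.1 heP) w hw)
  · intro h
    obtain ⟨w', hw', c, rfl⟩ := hdec w
    rw [herm_add_left, herm_smul_left, herm_eq_zero_swap hF ((mem_hperp.1 heP) w' hw'), zero_add] at h
    rw [(mul_eq_zero.1 h).resolve_right hee, zero_smul, add_zero]
    exact hw'

namespace Nine

variable {x : SU 4 F 2} {μ : F} {v e : Fin 4 → F}

omit [Fintype F] in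
theorem decomp (N : Nine x μ v e) (u : Fin 4 → F) : ∃ w ∈ tri x v, ∃ c : F, u = w + c • e := by
  refine ⟨u - (hermForm 4 F 2 u e / hermForm 4 F 2 e e) • e, ?_, hermForm 4 F 2 u e / hermForm 4 F 2 e e, by abel⟩
  rw [N.perp, herm_sub_left, herm_smul_left, div_mul_cancel₀ _ N.he, sub_self]

omit [Fintype F] in
theorem e_ne (N : Nine x μ v e) : e ≠ 0 := by
  rintro rfl
  exact N.he (herm_zero_left _)

/-- `x³ e = e` -/
theorem cube_e (hF : Fintype.card F = 2 ^ 2) (N : Nine x μ v e) : act x (act x (act x e)) = e := by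
  obtain ⟨c, hc⟩ := N.lam
  have hc0 : c ≠ 0 := by
    rintro rfl
    rw [zero_smul, act_eq_zero] at hc
    exact N.e_ne hc
  rw [hc, act_smul, hc, act_smul, act_smul, hc, smul_smul, smul_smul, ← pow_two, ← pow_succ, cube hF hc0, one_smul]

theorem mem_iff (hF : Fintype.card F = 2 ^ 2) (N : Nine x μ v e) {w : Fin 4 → F} :
    w ∈ tri x v ↔ act x (act x (act x w)) = μ • w := by
  refine ⟨fun h => tri_eig N.hx w h, fun h => ?_⟩
  obtain ⟨w', hw', c, rfl⟩ := N.decomp w
  rw [act_add, act_add, act_add, tri_eig N.hx w' hw', act_smul, act_smul, act_smul, N.cube_e hF, smul_add,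
    add_right_inj, smul_smul] at h
  have h2 : (c - μ * c) • e = 0 := by rw [sub_smul, h, sub_self]
  have h3 : (1 - μ) * c = 0 := by
    rw [sub_mul, one_mul]
    exact (smul_eq_zero.1 h2).resolve_right N.e_ne
  have h4 : c = 0 := (mul_eq_zero.1 h3).resolve_left (sub_ne_zero.2 (Ne.symm N.h1))
  rw [h4, zero_smul, add_zero]
  exact hw'

theorem mem_span_iff (hF : Fintype.card F = 2 ^ 2) (N : Nine x μ v e) {w : Fin 4 → F} :
    (∃ c : F, w = c • e) ↔ act x (act x (act x w)) = w := by
  constructor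
  · rintro ⟨c, rfl⟩
    rw [act_smul, act_smul, act_smul, N.cube_e hF]
  · intro h
    obtain ⟨w', hw', c, rfl⟩ := N.decomp w
    rw [act_add, act_add, act_add, tri_eig N.hx w' hw', act_smul, act_smul, act_smul, N.cube_e hF,
      add_left_inj] at h
    have h2 : (μ - 1) • w' = 0 := by rw [sub_smul, h, one_smul, sub_self]
    have h3 : w' = 0 := (smul_eq_zero.1 h2).resolve_left (sub_ne_zero.2 N.h1)
    exact ⟨c, by rw [h3, zero_add]⟩

/-- **no normal 2-subgroup** -/
theorem two_eq_bot (hF : Fintype.card F = 2 ^ 2) (N : Nine x μ v e) {A : Subgroup (SU 4 F 2)} (hA : IsPGroup 2 A)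
    (hxA : ∀ a ∈ A, x⁻¹ * a * x ∈ A) : A = ⊥ := by
  by_contra hne
  -- the fixed space
  let W : Submodule F (Fin 4 → F) :=
    { carrier := {u | ∀ a ∈ A, act a u = u}
      zero_mem' := fun a _ => act_zero a
      add_mem' := fun {u w} hu hw a ha => by rw [act_add, hu a ha, hw a ha]
      smul_mem' := fun c {u} hu a ha => by rw [act_smul, hu a ha] }
  have hWx : ∀ w ∈ W, act x w ∈ W := by
    intro w hw a ha
    have h1 := hw _ (hxA a ha)
    rw [act_mul, act_mul] at h1
    have h2 := congrArg (act x) h1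
    rwa [act_act_inv] at h2
  have hWfix : ∀ w ∈ W, ∀ a ∈ A, act a w = w := fun w hw => hw
  have hpow : ∀ a ∈ A, ∀ c : F, act a e = c • e → act a e = e := by
    intro a ha c hc
    obtain ⟨k, hk⟩ := hA ⟨a, ha⟩
    have hk' : a ^ 2 ^ k = 1 := congrArg Subtype.val hk
    have hc0 : c ≠ 0 := by
      rintro rfl
      rw [zero_smul, act_eq_zero] at hc
      exact N.e_ne hc
    have h1 : ∀ m : ℕ, act (a ^ m) e = c ^ m • e := by
      intro m
      induction m with
      | zero => rw [pow_zero, act_one, pow_zero, one_smul]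
      | succ m ih => rw [pow_succ, act_mul, hc, act_smul, ih, smul_smul, pow_succ']
    have h2 := h1 (2 ^ k)
    rw [hk', act_one] at h2
    have h3 : c ^ 2 ^ k = 1 := by
      have h4 : (c ^ 2 ^ k - 1) • e = 0 := by rw [sub_smul, ← h2, one_smul, sub_self]
      exact sub_eq_zero.1 ((smul_eq_zero.1 h4).resolve_right N.e_ne)
    have h4 : orderOf c ∣ 2 ^ k := orderOf_dvd_of_pow_eq_one h3
    have h5 : orderOf c ∣ 3 := orderOf_dvd_of_pow_eq_one (cube hF hc0)
    have h6 : orderOf c = 1 := by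
      refine Nat.eq_one_of_dvd_coprimes ?_ h4 h5
      exact Nat.Coprime.pow_left k (by norm_num)
    rw [orderOf_eq_one_iff] at h6
    rw [hc, h6, one_smul]
  rcases tri_le_or hF N.h0 N.h1 N.hv N.hx hWx with h | h
  · -- `A` fixes `e ^ ⊥`
    apply hne
    rw [eq_bot_iff]
    intro a ha
    rw [Subgroup.mem_bot]
    have h1 : ∀ w ∈ tri x v, act a w = w := fun w hw => hWfix w (h hw) a ha
    have h2 : ∃ c : F, act a e = c • e := by
      obtain ⟨w, hw, c, hc⟩ := N.decomp (act a e)
      have h3 : ∀ t ∈ tri x v, hermForm 4 F 2 w t = 0 := by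
        intro t ht
        have h4 : hermForm 4 F 2 (act a e) (act a t) = hermForm 4 F 2 e t := herm_act a e t
        have h5 : hermForm 4 F 2 e t = 0 := herm_eq_zero_swap hF ((N.perp t).1 ht)
        rw [h1 t ht, h5, hc, herm_add_left, herm_smul_left, h5, mul_zero, add_zero] at h4
        exact h4
      have h4 : w = 0 := by
        by_contra hw0
        obtain ⟨u, hu⟩ := exists_herm_ne_zero hF hw0
        obtain ⟨t, ht, d, rfl⟩ := N.decomp u
        apply hu
        rw [herm_add_right hF, herm_smul_right, h3 t ht, (N.perp w).1 hw, mul_zero, add_zero]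
      exact ⟨c, by rw [hc, h4, zero_add]⟩
    obtain ⟨c, hc⟩ := h2
    have h3 := hpow a ha c hc
    apply ext_act
    intro u
    obtain ⟨w, hw, d, rfl⟩ := N.decomp u
    rw [act_add, act_smul, h3, h1 w hw, act_one]
  · -- `A` fixes `e`
    have htop : (⊤ : Submodule F (Fin 4 → F)) ≠ ⊥ := by
      intro h2
      have : e ∈ (⊤ : Submodule F (Fin 4 → F)) := Submodule.mem_top
      rw [h2, Submodule.mem_bot] at this
      exact N.e_ne this
    have hW : ∀ w ∈ W, ∃ c : F, w = c • e := by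
      intro w hw
      rw [N.mem_span_iff hF]
      obtain ⟨t, ht, d, hd⟩ := N.decomp w
      have h1 : act x (act x (act x w)) - w ∈ W := W.sub_mem (hWx _ (hWx _ (hWx _ hw))) hw
      have h2 : act x (act x (act x w)) - w = (μ - 1) • t := by
        rw [hd, act_add, act_add, act_add, tri_eig N.hx t ht, act_smul, act_smul, act_smul, N.cube_e hF, sub_smul,
          one_smul]
        abel
      have h3 := h _ ((tri x v).smul_mem (μ - 1) ht) (h2 ▸ h1)
      rw [← h2] at h3
      exact sub_eq_zero.1 h3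
    obtain ⟨u, -, hu0, hu⟩ := exists_fixed hF hA (U := ⊤) (fun _ _ _ _ => Submodule.mem_top) htop
    obtain ⟨c, hc⟩ := hW u hu
    have hc0 : c ≠ 0 := by
      rintro rfl
      exact hu0 (by rw [hc, zero_smul])
    have hefix : ∀ a ∈ A, act a e = e := by
      intro a ha
      have h1 := hu a ha
      rw [hc, act_smul] at h1
      exact smul_right_injective _ hc0 h1
    obtain ⟨u', hu', hu'0, hu'1⟩ := exists_fixed hF hA (U := tri x v) (by
      intro a ha w hw
      rw [N.perp] at hw ⊢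
      have h1 := herm_act a w e
      rw [hefix a ha] at h1
      rw [h1, hw]) (by
      intro h2
      have := self_mem_tri x v
      rw [h2, Submodule.mem_bot] at this
      exact N.hv this)
    exact hu'0 (h u' hu' hu'1)

end Nine

end Cfsg.Agent.H251.Der.Geo
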