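import Cfsg.Agent.H251.Der.FiveMain

/-!
# `SU_6(2)`: elements of orders 5 and 11 (helper251, for S3500, S3502)

* `eleven_two` : no 2-subgroup is normalized by an element of order 11;
* `cm_cases` : the commutator space of an element of order 5;
* `two_cent` : a 2-group centralizing an element of order 5 has order at most 2.
-/

set_option autoImplicit false
set_option linter.unusedSectionVars false

namespace Cfsg.Agent.H251.Der.Geo

open Cfsg Matrix Module
open Cfsg.Agent.LieClassical.HermBasic Cfsg.Agent.LieClassical.HermSiegel Cfsg.Agent.LieClassical.SUBasic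
open Cfsg.Agent.H951 Cfsg.Agent.H950

variable {F : Type*} [Field F] [Fintype F] {n : ℕ}

/-- dimensions of invariant subspaces without fixed vectors -/
theorem four_pow_modEq (hF : Fintype.card F = 2 ^ 2) {p : ℕ} [hp : Fact p.Prime] {v : SU n F 2} (hv : v ^ p = 1)
    {W : Submodule F (Fin n → F)} (hW : ∀ w ∈ W, act v w ∈ W) (hf : ∀ w ∈ W, act v w = w → w = 0) :
    4 ^ finrank F W ≡ 1 [MOD p] := by
  have hz : ∀ a ∈ Subgroup.zpowers v, ∀ u ∈ W, act a u ∈ W := by
    have hpow : ∀ (k : ℕ), ∀ u ∈ W, act (v ^ k) u ∈ W := by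
      intro k
      induction k with
      | zero => intro u hu; rwa [pow_zero, act_one]
      | succ k ih => intro u hu; rw [pow_succ', act_mul]; exact hW _ (ih u hu)
    intro a ha
    have hfo : IsOfFinOrder v := isOfFinOrder_iff_pow_eq_one.2 ⟨p, hp.out.pos, hv⟩
    obtain ⟨k, rfl⟩ := (hfo.mem_powers_iff_mem_zpowers).2 ha
    exact hpow k
  have hA : IsPGroup p (Subgroup.zpowers v) := by
    rintro ⟨a, k, rfl⟩
    refine ⟨1, Subtype.ext ?_⟩
    change (v ^ k) ^ p ^ 1 = 1
    rw [pow_one, ← zpow_natCast, ← _root_.zpow_mul, mul_comm, _root_.zpow_mul, zpow_natCast, hv, _root_.one_zpow]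
  let inst : MulAction (Subgroup.zpowers v) W :=
    { smul := fun a u => ⟨act (a : SU n F 2) u, hz a a.2 u u.2⟩
      one_smul := fun u => Subtype.ext (act_one _)
      mul_smul := fun a b u => Subtype.ext (act_mul _ _ _) }
  have hmod := hA.card_modEq_card_fixedPoints W
  have h0 : (0 : W) ∈ MulAction.fixedPoints (Subgroup.zpowers v) W := fun a => Subtype.ext (act_zero _)
  have h1 : Nat.card (MulAction.fixedPoints (Subgroup.zpowers v) W) = 1 := by
    rw [Nat.card_eq_one_iff_unique]
    refine ⟨⟨fun a b => ?_⟩, ⟨⟨0, h0⟩⟩⟩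
    have key : ∀ a : MulAction.fixedPoints (Subgroup.zpowers v) W, ((a : W) : Fin n → F) = 0 := by
      intro a
      exact hf _ a.1.2 (congrArg Subtype.val (a.2 ⟨v, Subgroup.mem_zpowers v⟩))
    apply Subtype.ext
    apply Subtype.ext
    rw [key a, key b]
  rw [h1, Module.natCard_eq_pow_finrank (K := F), Nat.card_eq_fintype_card, hF] at hmod
  exact hmod

section cmfx

variable (hF : Fintype.card F = 2 ^ 2) {p : ℕ} (hp : ((p : ℕ) : F) ≠ 0) {v : SU n F 2} (hv : v ^ p = 1)

include hv

omit [Fintype F] in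
theorem actL_pow_one : actL v ^ p = 1 := by rw [← actL_pow, hv, actL_one]

include hF hp

theorem nd_cm : Nd (hermForm n F 2) (cm (actL v)) := by
  have := (isom_actL v).nd_inf_cm (frm_herm hF n) hp (actL_pow_one hv) (inv_top) (nd_top hF n)
  rwa [top_inf_eq] at this

theorem nd_fx : Nd (hermForm n F 2) (fx (actL v)) := by
  have := (isom_actL v).nd_inf_fx (frm_herm hF n) hp (actL_pow_one hv) (inv_top) (nd_top hF n)
  rwa [top_inf_eq] at this

omit hF in
theorem cm_inf_fx : cm (actL v) ⊓ fx (actL v) = ⊥ := inf_fx_of_le_cm hp (actL_pow_one hv) le_rfl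

omit hF in
theorem fx_sup_cm : fx (actL v) ⊔ cm (actL v) = ⊤ := by
  have h1 := inf_fx_sup_inf_cm hp (actL_pow_one hv) (inv_top (x := actL v))
  rwa [top_inf_eq, top_inf_eq] at h1

omit hF in
theorem finrank_fx_cm : finrank F (fx (actL v)) + finrank F (cm (actL v)) = n := by
  have := finrank_fx_add_cm hp (actL_pow_one hv)
  rwa [Module.finrank_fintype_fun_eq_card, Fintype.card_fin] at this

omit hp hv in
theorem herm_fx_cm {a b : Fin n → F} (ha : act v a = a) (hb : b ∈ cm (actL v)) : hermForm n F 2 a b = 0 :=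
  (isom_actL v).fx_cm (frm_herm hF n) (mem_fx.2 ha) hb

omit hp hv in
theorem herm_cm_fx {a b : Fin n → F} (ha : act v a = a) (hb : b ∈ cm (actL v)) : hermForm n F 2 b a = 0 :=
  herm_eq_zero_swap hF (herm_fx_cm hF ha hb)

omit hF in
theorem cm_ne (hv1 : v ≠ 1) : finrank F (cm (actL v)) ≠ 0 := by
  intro h
  rw [Submodule.finrank_eq_zero] at h
  apply hv1
  apply ext_act
  intro u
  have h1 : actL v u - u ∈ cm (actL v) := mem_cm.2 ⟨u, rfl⟩
  rw [h, Submodule.mem_bot, sub_eq_zero] at h1
  rw [act_one]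
  exact h1

omit hF in
theorem cm_fixed {w : Fin n → F} (hw : w ∈ cm (actL v)) (h : act v w = w) : w = 0 := by
  have : w ∈ cm (actL v) ⊓ fx (actL v) := ⟨hw, mem_fx.2 h⟩
  rwa [cm_inf_fx hp hv, Submodule.mem_bot] at this

end cmfx

/-! ### order 11 -/

theorem eleven_ne (hF : Fintype.card F = 2 ^ 2) : ((11 : ℕ) : F) ≠ 0 := by
  have h2 := two_eq hF
  intro h
  apply one_ne_zero (α := F)
  push_cast at h
  linear_combination h - 5 * h2

/-- **no 2-subgroup is normalized by an element of order 11** -/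
theorem eleven_two (hF : Fintype.card F = 2 ^ 2) {v : SU 6 F 2} (hv : v ^ 11 = 1) (hv1 : v ≠ 1)
    {A : Subgroup (SU 6 F 2)} (hA : IsPGroup 2 A) (hvA : ∀ a ∈ A, v⁻¹ * a * v ∈ A) : A = ⊥ := by
  have h11 : Fact (Nat.Prime 11) := ⟨by norm_num⟩
  have hB := frm_herm hF 6
  have hsum := finrank_fx_cm (eleven_ne hF) hv
  have hmod := four_pow_modEq hF (p := 11) hv (W := cm (actL v)) (fun w hw => inv_cm w hw)
    (fun w hw => cm_fixed (eleven_ne hF) hv hw)
  have hne := cm_ne (eleven_ne hF) hv hv1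
  have key : ∀ k : ℕ, k ≤ 6 → k ≠ 0 → 4 ^ k ≡ 1 [MOD 11] → k = 5 := by
    intro k h1 h2 h3
    interval_cases k <;> revert h3 <;> first | decide | simp_all
  have hc5 : finrank F (cm (actL v)) = 5 := key _ (by omega) hne hmod
  have hf1 : finrank F (fx (actL v)) = 1 := by omega
  -- invariant subspaces without fixed vectors
  have hinv : ∀ W : Submodule F (Fin 6 → F), (∀ w ∈ W, act v w ∈ W) → (∀ w ∈ W, act v w = w → w = 0) → W ≠ ⊥ →
      W = cm (actL v) := by
    intro W hW hWf h0
    have h1 : finrank F W ≠ 0 := fun h => h0 (Submodule.finrank_eq_zero.1 h)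
    have hWf' : W ⊓ fx (actL v) = ⊥ := by
      rw [eq_bot_iff]
      intro w hw
      rw [Submodule.mem_bot]
      exact hWf w hw.1 (mem_fx.1 hw.2)
    have hle := le_cm_of_inf_fx (eleven_ne hF) (actL_pow_one hv) hW hWf'
    have h2 := Submodule.finrank_mono hle
    exact Submodule.eq_of_le_of_finrank_eq hle (by
      rw [hc5, key _ (by omega) h1 (four_pow_modEq hF (p := 11) hv hW hWf)])
  let W : Submodule F (Fin 6 → F) :=
    { carrier := {u | ∀ a ∈ A, act a u = u}
      zero_mem' := fun a _ => act_zero a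
      add_mem' := fun {u w} hu hw a ha => by rw [act_add, hu a ha, hw a ha]
      smul_mem' := fun c {u} hu a ha => by rw [act_smul, hu a ha] }
  have hWv : ∀ w ∈ W, act v w ∈ W := by
    intro w hw a ha
    have h1 := hw _ (hvA a ha)
    rw [act_mul, act_mul] at h1
    have h2 := congrArg (act v) h1
    rwa [act_act_inv] at h2
  have hWfix : ∀ w ∈ W, ∀ a ∈ A, act a w = w := fun w hw => hw
  have hcmA : cm (actL v) ≤ W → fx (actL v) ≤ W → A = ⊥ := by
    intro h1 h2
    rw [eq_bot_iff]
    intro a ha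
    rw [Subgroup.mem_bot]
    apply ext_act
    intro u
    rw [act_one]
    have h3 : fx (actL v) ⊔ cm (actL v) ≤ W := sup_le h2 h1
    rw [fx_sup_cm (eleven_ne hF) hv] at h3
    exact hWfix u (h3 Submodule.mem_top) a ha
  by_cases hfW : ∃ w ∈ W, act v w = w ∧ w ≠ 0
  · -- the fixed line
    obtain ⟨w, hwW, hvw, hw0⟩ := hfW
    have hfxW : fx (actL v) ≤ W := by
      intro u hu
      obtain ⟨e, he0, he⟩ := finrank_eq_one_iff'.1 hf1
      obtain ⟨c, hc⟩ := he ⟨w, mem_fx.2 hvw⟩
      obtain ⟨d, hd⟩ := he ⟨u, hu⟩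
      have hc0 : c ≠ 0 := by
        rintro rfl
        apply hw0
        have := congrArg Subtype.val hc
        rw [zero_smul] at this
        exact this.symm
      have hc' : c • (e : Fin 6 → F) = w := congrArg Subtype.val hc
      have hd' : d • (e : Fin 6 → F) = u := congrArg Subtype.val hd
      have : u = (d * c⁻¹) • w := by
        rw [← hc', smul_smul, mul_assoc, inv_mul_cancel₀ hc0, mul_one, hd']
      rw [this]
      exact W.smul_mem _ hwW
    -- `A` acts on the commutator space
    have hcmA' : ∀ a ∈ A, ∀ u ∈ cm (actL v), act a u ∈ cm (actL v) := by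
      intro a ha u hu
      obtain ⟨b, hb, c, hc, hbc⟩ := Submodule.mem_sup.1 (show act a u ∈ fx (actL v) ⊔ cm (actL v) by
        rw [fx_sup_cm (eleven_ne hF) hv]; exact Submodule.mem_top)
      have hnd := nd_fx hF (eleven_ne hF) hv
      have hb0 : b = 0 := by
        by_contra hne
        obtain ⟨d, hd, hbd⟩ := hnd b hb hne
        apply hbd
        have h1 := herm_act a u d
        rw [hWfix d (hfxW hd) a ha, ← hbc, herm_add_left, herm_cm_fx hF (mem_fx.1 hd) hc, add_zero,
          herm_cm_fx hF (mem_fx.1 hd) hu] at h1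
        exact h1
      rw [← hbc, hb0, zero_add]
      exact hc
    have hcmne : cm (actL v) ≠ ⊥ := by
      intro h
      rw [h, finrank_bot] at hc5
      omega
    obtain ⟨u, hu, hu0, hu1⟩ := exists_fixed hF hA (U := cm (actL v)) hcmA' hcmne
    have h3 := hinv (W ⊓ cm (actL v)) (fun w hw => ⟨hWv w hw.1, inv_cm w hw.2⟩)
      (fun w hw => cm_fixed (eleven_ne hF) hv hw.2) (by
        intro h
        have : u ∈ W ⊓ cm (actL v) := ⟨hu1, hu⟩
        rw [h, Submodule.mem_bot] at this
        exact hu0 this)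
    exact hcmA (by rw [← h3]; exact inf_le_left) hfxW
  · push Not at hfW
    have hWne : W ≠ ⊥ := by
      obtain ⟨u, -, hu0, hu1⟩ := exists_fixed hF hA (U := (⊤ : Submodule F (Fin 6 → F))) (fun _ _ _ _ => Submodule.mem_top)
        (by
          intro h
          have h1 : finrank F (⊤ : Submodule F (Fin 6 → F)) = 6 := by
            rw [finrank_top, Module.finrank_fintype_fun_eq_card, Fintype.card_fin]
          rw [h, finrank_bot] at h1
          omega)
      intro h
      have : u ∈ W := hu1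
      rw [h, Submodule.mem_bot] at this
      exact hu0 this
    have h3 := hinv W hWv hfW hWne
    refine hcmA h3.ge ?_
    intro d hd a ha
    -- `a d` is orthogonal to the commutator space
    have hao : a ∈ A := ha
    obtain ⟨k, hk⟩ := hA ⟨a, ha⟩
    have hk' : a ^ 2 ^ k = 1 := congrArg Subtype.val hk
    obtain ⟨b, hb, c, hc, hbc⟩ := Submodule.mem_sup.1 (show act a d ∈ fx (actL v) ⊔ cm (actL v) by
      rw [fx_sup_cm (eleven_ne hF) hv]; exact Submodule.mem_top)
    have hc0 : c = 0 := by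
      by_contra hne
      obtain ⟨u, hu, hcu⟩ := nd_cm hF (eleven_ne hF) hv c hc hne
      apply hcu
      have h1 := herm_act a d u
      rw [hWfix u (h3 ▸ hu) a ha, ← hbc, herm_add_left, herm_fx_cm hF (mem_fx.1 hb) hu, zero_add,
        herm_fx_cm hF (mem_fx.1 hd) hu] at h1
      exact h1
    rw [hc0, add_zero] at hbc
    obtain ⟨e, he0, he⟩ := finrank_eq_one_iff'.1 hf1
    obtain ⟨s, hs⟩ := he ⟨b, hb⟩
    obtain ⟨t, ht⟩ := he ⟨d, hd⟩
    have hs' : s • (e : Fin 6 → F) = b := congrArg Subtype.val hs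
    have ht' : t • (e : Fin 6 → F) = d := congrArg Subtype.val ht
    by_cases ht0 : t = 0
    · rw [← ht', ht0, zero_smul, act_zero]
    have had : act a d = (s * t⁻¹) • d := by
      rw [← hbc, ← hs', ← ht', smul_smul, mul_assoc, inv_mul_cancel₀ ht0, mul_one]
    have hd0 : d ≠ 0 := by
      rw [← ht']
      intro h
      rcases smul_eq_zero.1 h with h | h
      · exact ht0 h
      · exact he0 (Subtype.ext h)
    have h4 := act_pow_smul a had (2 ^ k)
    rw [hk', act_one] at h4
    have h5 : (s * t⁻¹) ^ 2 ^ k = 1 := by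
      have h6 : ((s * t⁻¹) ^ 2 ^ k - 1) • d = 0 := by rw [sub_smul, ← h4, one_smul, sub_self]
      exact sub_eq_zero.1 ((smul_eq_zero.1 h6).resolve_right hd0)
    have h6 : s * t⁻¹ ≠ 0 := by
      intro h
      rw [h, zero_pow (by positivity)] at h5
      exact zero_ne_one h5
    have h7 : s * t⁻¹ = 1 := by
      have h8 := orderOf_dvd_of_pow_eq_one (cube hF h6)
      have h9 := orderOf_dvd_of_pow_eq_one h5
      have h10 : Nat.Coprime 3 (2 ^ k) := Nat.Coprime.pow_right k (by norm_num)
      exact orderOf_eq_one_iff.1 (Nat.eq_one_of_dvd_coprimes h10 h8 h9)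
    rw [had, h7, one_smul]

/-! ### order 5 -/

/-- the eigenspaces of an element of order 5 -/
def Kf (v : SU n F 2) (w : F) : Submodule F (Fin n → F) where
  carrier := {u | u ∈ cm (actL v) ∧ act v (act v u) + w • act v u + u = 0}
  zero_mem' := ⟨Submodule.zero_mem _, by rw [act_zero, act_zero, smul_zero, add_zero, add_zero]⟩
  add_mem' := by
    rintro a b ⟨ha, ha'⟩ ⟨hb, hb'⟩
    refine ⟨Submodule.add_mem _ ha hb, ?_⟩
    rw [act_add, act_add, smul_add]
    have : act v (act v a) + act v (act v b) + (w • act v a + w • act v b) + (a + b) =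
      (act v (act v a) + w • act v a + a) + (act v (act v b) + w • act v b + b) := by abel
    rw [this, ha', hb', add_zero]
  smul_mem' := by
    rintro c a ⟨ha, ha'⟩
    refine ⟨Submodule.smul_mem _ c ha, ?_⟩
    rw [act_smul, act_smul, smul_comm w c, ← smul_add, ← smul_add, ha', smul_zero]

theorem mem_Kf {v : SU n F 2} {w : F} {u : Fin n → F} :
    u ∈ Kf v w ↔ u ∈ cm (actL v) ∧ act v (act v u) + w • act v u + u = 0 := Iff.rfl

theorem Kf_le (v : SU n F 2) (w : F) : Kf v w ≤ cm (actL v) := fun _ h => h.1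

theorem Kf_inv {v : SU n F 2} {w : F} : ∀ u ∈ Kf v w, act v u ∈ Kf v w := by
  rintro u ⟨hu, hu'⟩
  refine ⟨inv_cm u hu, ?_⟩
  have := congrArg (act v) hu'
  rwa [act_add, act_add, act_smul, act_zero] at this

/-- elements commuting with `v` preserve the commutator space -/
theorem cm_comm {a v : SU n F 2} (hc : a * v = v * a) : ∀ u ∈ cm (actL v), act a u ∈ cm (actL v) := by
  intro u hu
  obtain ⟨t, rfl⟩ := mem_cm.1 hu
  refine mem_cm.2 ⟨act a t, ?_⟩
  rw [actL_apply, actL_apply, act_sub, ← act_mul, ← act_mul, hc]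

theorem Kf_comm {a v : SU n F 2} {w : F} (hc : a * v = v * a) : ∀ u ∈ Kf v w, act a u ∈ Kf v w := by
  rintro u ⟨hu, hu'⟩
  refine ⟨cm_comm hc u hu, ?_⟩
  have h1 : ∀ t, act v (act a t) = act a (act v t) := fun t => by rw [← act_mul, ← act_mul, hc]
  rw [h1, h1, ← act_smul, ← act_add, ← act_add, hu', act_zero]

/-- the eigenspaces are totally isotropic -/
theorem Kf_iso (hF : Fintype.card F = 2 ^ 2) {v : SU n F 2} {w : F} (hww : w * w = w + 1) :
    ∀ a ∈ Kf v w, ∀ b ∈ Kf v w, hermForm n F 2 a b = 0 := by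
  have h2 := two_eq hF
  rintro a ⟨-, ha⟩ b ⟨-, hb⟩
  have e1 : hermForm n F 2 (act v (act v a)) (act v b) = hermForm n F 2 (act v a) b := herm_act v _ _
  have e2 : hermForm n F 2 (act v a) (act v b) = hermForm n F 2 a b := herm_act v _ _
  have e3 : hermForm n F 2 (act v a) (act v (act v b)) = hermForm n F 2 a (act v b) := herm_act v _ _
  have e4 : hermForm n F 2 (act v (act v a) + w • act v a + a) (act v b) = 0 := by rw [ha]; exact herm_zero_left _
  have e5 : hermForm n F 2 (act v a) (act v (act v b) + w • act v b + b) = 0 := by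
    rw [hb]
    have := herm_zero_left (q := 2) (act v a)
    exact herm_eq_zero_swap hF this
  rw [herm_add_left, herm_add_left, herm_smul_left, e1, e2] at e4
  rw [herm_add_right hF, herm_add_right hF, herm_smul_right, e3, e2] at e5
  linear_combination e4 + e5 - (hermForm n F 2 (act v a) b + hermForm n F 2 a (act v b)) * h2 -
    w * hermForm n F 2 a b * h2 - hermForm n F 2 a b * hww

/-- the factorization of the fifth cyclotomic polynomial -/
theorem five_eq (hF : Fintype.card F = 2 ^ 2) {v : SU n F 2} (hv : v ^ 5 = 1) {u : Fin n → F}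
    (hu : u ∈ cm (actL v)) : act v (act v (act v (act v u))) + act v (act v (act v u)) + act v (act v u) + act v u + u =
      0 := by
  have h5 : act v (act v (act v (act v (act v u)))) = u := by
    have : act (v ^ 5) u = u := by rw [hv, act_one]
    rwa [show v ^ 5 = v * (v * (v * (v * v))) by simp only [pow_succ, pow_zero, one_mul, mul_assoc], act_mul, act_mul,
      act_mul, act_mul] at this
  have hin : ∀ {t}, t ∈ cm (actL v) → act v t ∈ cm (actL v) := fun ht => inv_cm _ ht
  apply cm_fixed (five_ne hF) hv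
  · exact Submodule.add_mem _ (Submodule.add_mem _ (Submodule.add_mem _ (Submodule.add_mem _ (hin (hin (hin (hin hu))))
      (hin (hin (hin hu)))) (hin (hin hu))) (hin hu)) hu
  · rw [act_add, act_add, act_add, act_add, h5]
    abel

/-- `f(v) u` lies in the other eigenspace -/
theorem f_mem (hF : Fintype.card F = 2 ^ 2) {v : SU n F 2} (hv : v ^ 5 = 1) {w : F} (hw3 : w ^ 3 = 1)
    (hww : w * w = w + 1) {u : Fin n → F} (hu : u ∈ cm (actL v)) :
    act v (act v u) + w • act v u + u ∈ Kf v (w * w) := by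
  have h2 := two_eq hF
  have hin : ∀ {t}, t ∈ cm (actL v) → act v t ∈ cm (actL v) := fun ht => inv_cm _ ht
  refine ⟨Submodule.add_mem _ (Submodule.add_mem _ (hin (hin hu)) (Submodule.smul_mem _ _ (hin hu))) hu, ?_⟩
  have h5 := five_eq hF hv hu
  simp only [act_add, act_smul, smul_add, smul_smul]
  rw [← h5]
  funext i
  simp only [Pi.add_apply, Pi.smul_apply, smul_eq_mul]
  linear_combination (act v (act v (act v u)) i + act v u i) * (hww + w * h2) +
    act v (act v u) i * (hw3 + h2) 

theorem w_sq {w : F} (hF : Fintype.card F = 2 ^ 2) (hww : w * w = w + 1) : (w * w) * (w * w) = w * w + 1 := by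
  have h2 := two_eq hF
  linear_combination (w * w + w + 1) * hww + w * h2

theorem cm_le (hF : Fintype.card F = 2 ^ 2) {v : SU n F 2} (hv : v ^ 5 = 1) {w : F} (hw3 : w ^ 3 = 1)
    (hww : w * w = w + 1) : cm (actL v) ≤ Kf v w ⊔ Kf v (w * w) := by
  have h2 := two_eq hF
  have hinv : ∀ u ∈ Kf v w ⊔ Kf v (w * w), act v u ∈ Kf v w ⊔ Kf v (w * w) := by
    intro u hu
    obtain ⟨a, ha, b, hb, rfl⟩ := Submodule.mem_sup.1 hu
    rw [act_add]
    exact Submodule.add_mem_sup (Kf_inv a ha) (Kf_inv b hb)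
  have hw6 : (w * w) ^ 3 = 1 := by rw [← pow_two, ← pow_mul, mul_comm, pow_mul, hw3, one_pow]
  have hw4 : w * w * (w * w) = w := by linear_combination w * hw3
  have key : ∀ u ∈ cm (actL v), act v u ∈ Kf v w ⊔ Kf v (w * w) := by
    intro u hu
    have e1 := f_mem hF hv hw3 hww hu
    have e2 := f_mem hF hv hw6 (w_sq hF hww) hu
    rw [hw4] at e2
    have h3 := Submodule.add_mem_sup e2 e1
    have h4 : act v (act v u) + (w * w) • act v u + u + (act v (act v u) + w • act v u + u) = act v u := by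
      funext i
      simp only [Pi.add_apply, Pi.smul_apply, smul_eq_mul]
      linear_combination (act v (act v u) i + u i + w * act v u i) * h2 + act v u i * hww
    rwa [h4] at h3
  intro u hu
  have h5 : act v (act v (act v (act v (act v u)))) = u := by
    have : act (v ^ 5) u = u := by rw [hv, act_one]
    rwa [show v ^ 5 = v * (v * (v * (v * v))) by simp only [pow_succ, pow_zero, one_mul, mul_assoc], act_mul, act_mul,
      act_mul, act_mul] at this
  rw [← h5]
  exact hinv _ (hinv _ (hinv _ (hinv _ (key u hu))))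

/-- the geometry of an element of order 5 in `SU_6(2)` -/
theorem five_dims (hF : Fintype.card F = 2 ^ 2) {v : SU 6 F 2} (hv : v ^ 5 = 1) (hv1 : v ≠ 1) :
    finrank F (cm (actL v)) = 4 ∧ finrank F (fx (actL v)) = 2 := by
  have hsum := finrank_fx_cm (five_ne hF) hv
  have h4 := four_dvd hF hv (W := cm (actL v)) (fun w hw => inv_cm w hw) (nd_cm hF (five_ne hF) hv)
    (cm_inf_fx (five_ne hF) hv)
  have hne := cm_ne (five_ne hF) hv hv1
  omega

theorem Kf_irr (hF : Fintype.card F = 2 ^ 2) {v : SU 6 F 2} (hv : v ^ 5 = 1) (hv1 : v ≠ 1) {w : F}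
    (hww : w * w = w + 1) {U : Submodule F (Fin 6 → F)} (hU : ∀ u ∈ U, act v u ∈ U) (hle : U ≤ Kf v w) (h0 : U ≠ ⊥) :
    U = Kf v w := by
  have h5 : Fact (Nat.Prime 5) := ⟨by norm_num⟩
  have hd : ∀ W : Submodule F (Fin 6 → F), (∀ u ∈ W, act v u ∈ W) → W ≤ Kf v w → W ≠ ⊥ → finrank F W = 2 := by
    intro W hW hle h0
    have h1 : finrank F W ≠ 0 := fun h => h0 (Submodule.finrank_eq_zero.1 h)
    have h2 := four_pow_modEq hF (p := 5) hv hW (fun w hw => cm_fixed (five_ne hF) hv (Kf_le _ _ (hle hw)))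
    have h3 := (frm_herm hF 6).two_mul_finrank_le (nd_cm hF (five_ne hF) hv) (hle.trans (Kf_le v w))
      (fun a ha b hb => Kf_iso hF hww a (hle ha) b (hle hb))
    rw [(five_dims hF hv hv1).1] at h3
    have h4 : finrank F W ≤ 2 := by omega
    interval_cases hk : finrank F W
    · exact absurd rfl h1
    · revert h2; decide
    · rfl
  have h1 := hd U hU hle h0
  have h2 := hd (Kf v w) Kf_inv le_rfl (fun h => h0 (le_bot_iff.1 (h ▸ hle)))
  exact Submodule.eq_of_le_of_finrank_eq hle (by rw [h1, h2])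

/-- 2-groups centralizing an element of order 5 are trivial on the commutator space -/
theorem two_on_cm (hF : Fintype.card F = 2 ^ 2) {v : SU 6 F 2} (hv : v ^ 5 = 1) (hv1 : v ≠ 1)
    {A : Subgroup (SU 6 F 2)} (hA : IsPGroup 2 A) (hvA : ∀ a ∈ A, a * v = v * a) :
    ∀ a ∈ A, ∀ u ∈ cm (actL v), act a u = u := by
  obtain ⟨w, hw3, hw1, hw0, hww, h2⟩ := H251.Small.exists_omega hF
  have hw6 : (w * w) ^ 3 = 1 := by rw [← pow_two, ← pow_mul, mul_comm, pow_mul, hw3, one_pow]
  have key : ∀ w : F, w * w = w + 1 → ∀ a ∈ A, ∀ u ∈ Kf v w, act a u = u := by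
    intro w hww a ha u hu
    by_cases h0 : Kf v w = ⊥
    · rw [h0, Submodule.mem_bot] at hu
      rw [hu, act_zero]
    obtain ⟨t, ht, ht0, ht1⟩ := exists_fixed hF hA (U := Kf v w) (fun a ha u hu => Kf_comm (hvA a ha) u hu) h0
    let U : Submodule F (Fin 6 → F) :=
      { carrier := {u | u ∈ Kf v w ∧ ∀ a ∈ A, act a u = u}
        zero_mem' := ⟨Submodule.zero_mem _, fun a _ => act_zero a⟩
        add_mem' := fun {u w} hu hw => ⟨Submodule.add_mem _ hu.1 hw.1, fun a ha => by rw [act_add, hu.2 a ha, hw.2 a ha]⟩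
        smul_mem' := fun c {u} hu => ⟨Submodule.smul_mem _ c hu.1, fun a ha => by rw [act_smul, hu.2 a ha]⟩ }
    have hU : U = Kf v w := by
      refine Kf_irr hF hv hv1 hww ?_ (fun u hu => hu.1) ?_
      · rintro u ⟨hu, hu'⟩
        refine ⟨Kf_inv u hu, fun a ha => ?_⟩
        rw [← act_mul, hvA a ha, act_mul, hu' a ha]
      · intro h
        have : t ∈ U := ⟨ht, ht1⟩
        rw [h, Submodule.mem_bot] at this
        exact ht0 this
    have hu' : u ∈ U := by rw [hU]; exact hu
    exact hu'.2 a ha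
  intro a ha u hu
  obtain ⟨b, hb, c, hc, rfl⟩ := Submodule.mem_sup.1 (cm_le hF hv hw3 hww hu)
  rw [act_add, key w hww a ha b hb, key (w * w) (w_sq hF hww) a ha c hc]

/-- a plane -/
theorem span_two {P : Submodule F (Fin n → F)} (h2 : finrank F P = 2) {f g : Fin n → F} (hf : f ∈ P) (hf0 : f ≠ 0)
    (hg : g ∈ P) (hli : ¬ ∃ c : F, g = c • f) : ∀ s ∈ P, ∃ c d : F, s = c • f + d • g := by
  intro s hs
  have hli2 : LinearIndependent F ![(⟨f, hf⟩ : P), ⟨g, hg⟩] := by
    rw [LinearIndependent.pair_iff]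
    intro p r hpr
    have h5 : p • f + r • g = 0 := congrArg Subtype.val hpr
    by_cases hr : r = 0
    · rw [hr, zero_smul, add_zero] at h5
      exact ⟨(smul_eq_zero.1 h5).resolve_right hf0, hr⟩
    · exfalso
      apply hli
      refine ⟨-(r⁻¹ * p), ?_⟩
      have h6 : r • g = -(p • f) := by rw [eq_neg_iff_add_eq_zero, add_comm]; exact h5
      have h7 := congrArg (fun z => r⁻¹ • z) h6
      simp only [smul_smul, inv_mul_cancel₀ hr, one_smul, smul_neg] at h7
      rw [h7, neg_smul]
  have htop := hli2.span_eq_top_of_card_eq_finrank (by rw [Fintype.card_fin, h2])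
  have hmem : (⟨s, hs⟩ : P) ∈ Submodule.span F (Set.range ![(⟨f, hf⟩ : P), ⟨g, hg⟩]) := by
    rw [htop]; exact Submodule.mem_top
  rw [Submodule.mem_span_range_iff_exists_fun] at hmem
  obtain ⟨c, hc⟩ := hmem
  rw [Fin.sum_univ_two] at hc
  exact ⟨c 0, c 1, (congrArg Subtype.val hc).symm⟩

/-- **a 2-group centralizing an element of order 5 has order at most 2** -/
theorem two_cent (hF : Fintype.card F = 2 ^ 2) {v : SU 6 F 2} (hv : v ^ 5 = 1) (hv1 : v ≠ 1)
    {A : Subgroup (SU 6 F 2)} (hA : IsPGroup 2 A) (hvA : ∀ a ∈ A, a * v = v * a) {a b : SU 6 F 2} (ha : a ∈ A)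
    (hb : b ∈ A) (ha1 : a ≠ 1) (hb1 : b ≠ 1) : a = b := by
  have hB := frm_herm hF 6
  have hcm := two_on_cm hF hv hv1 hA hvA
  obtain ⟨-, hf2⟩ := five_dims hF hv hv1
  have hnd := nd_fx hF (five_ne hF) hv
  have hfxA : ∀ a ∈ A, ∀ u ∈ fx (actL v), act a u ∈ fx (actL v) := by
    intro a ha u hu
    rw [mem_fx, actL_apply, ← act_mul, ← hvA a ha, act_mul]
    congr 1
    exact mem_fx.1 hu
  have hne : fx (actL v) ≠ ⊥ := by
    intro h
    rw [h, finrank_bot] at hf2
    omega
  -- an element which is trivial on two independent vectors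
  have hext : ∀ f g : Fin 6 → F, f ∈ fx (actL v) → f ≠ 0 → g ∈ fx (actL v) → (¬ ∃ c : F, g = c • f) → ∀ x ∈ A,
      act x f = f → act x g = g → x = 1 := by
    intro f g hf hf0 hg hli x hx hxf hxg
    apply ext_act
    intro u
    rw [act_one]
    obtain ⟨s, hs, t, ht, rfl⟩ := Submodule.mem_sup.1 (show u ∈ fx (actL v) ⊔ cm (actL v) by
      rw [fx_sup_cm (five_ne hF) hv]; exact Submodule.mem_top)
    rw [act_add, hcm x hx t ht]
    congr 1
    obtain ⟨c, d, rfl⟩ := span_two hf2 hf hf0 hg hli s hs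
    rw [act_add, act_smul, act_smul, hxf, hxg]
  obtain ⟨f, hf, hf0, hfA⟩ := exists_fixed hF hA (U := fx (actL v)) hfxA hne
  obtain ⟨g, hg, hfg⟩ := hnd f hf hf0
  have hgf : hermForm 6 F 2 g f ≠ 0 := fun h => hfg (herm_eq_zero_swap hF h)
  -- `f` is isotropic
  have hff : hermForm 6 F 2 f f = 0 := by
    let P' : Submodule F (Fin 6 → F) := fx (actL v) ⊓ hB.perp (Submodule.span F {f})
    have hP'A : ∀ a ∈ A, ∀ u ∈ P', act a u ∈ P' := by
      rintro a ha u ⟨hu, hu'⟩
      refine ⟨hfxA a ha u hu, ?_⟩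
      intro d hd
      obtain ⟨c, rfl⟩ := Submodule.mem_span_singleton.1 hd
      have h5 := herm_act a u f
      rw [hfA a ha] at h5
      rw [herm_smul_right, h5, hu' f (Submodule.mem_span_singleton_self f), mul_zero]
    have hP'ne : P' ≠ ⊥ := by
      intro hP
      have hle : fx (actL v) ≤ Submodule.span F {g} := by
        intro u hu
        have h5 : hermForm 6 F 2 g f • u - hermForm 6 F 2 u f • g ∈ P' := by
          refine ⟨Submodule.sub_mem _ (Submodule.smul_mem _ _ hu) (Submodule.smul_mem _ _ hg), ?_⟩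
          intro d hd
          obtain ⟨c, rfl⟩ := Submodule.mem_span_singleton.1 hd
          rw [herm_smul_right, herm_sub_left, herm_smul_left, herm_smul_left]
          ring
        rw [hP, Submodule.mem_bot, sub_eq_zero] at h5
        rw [Submodule.mem_span_singleton]
        refine ⟨(hermForm 6 F 2 g f)⁻¹ * hermForm 6 F 2 u f, ?_⟩
        rw [mul_smul, ← h5, smul_smul, inv_mul_cancel₀ hgf, one_smul]
      have h5 := Submodule.finrank_mono hle
      have h6 : finrank F (Submodule.span F {g}) = 1 := finrank_span_singleton (by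
        rintro rfl
        exact hgf (herm_zero_left _))
      omega
    obtain ⟨g₁, ⟨hg₁, hg₁'⟩, hg₁0, hg₁A⟩ := exists_fixed hF hA (U := P') hP'A hP'ne
    by_cases hli : ∃ c : F, g₁ = c • f
    · obtain ⟨c, rfl⟩ := hli
      have h5 := hg₁' f (Submodule.mem_span_singleton_self f)
      rw [herm_smul_left] at h5
      refine (mul_eq_zero.1 h5).resolve_left ?_
      rintro rfl
      exact hg₁0 (zero_smul _ _)
    · exact absurd (hext f g₁ hf hf0 hg₁ hli a ha (hfA a ha) (hg₁A a ha)) ha1
  have hgli : ¬ ∃ c : F, g = c • f := by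
    rintro ⟨c, rfl⟩
    apply hgf
    rw [herm_smul_left, hff, mul_zero]
  -- the difference is a multiple of `f`
  have hdiff : ∀ x ∈ A, ∃ l : F, act x g = g + l • f := by
    intro x hx
    have hm : act x g - g ∈ fx (actL v) := Submodule.sub_mem _ (hfxA x hx g hg) hg
    have hmf : hermForm 6 F 2 (act x g - g) f = 0 := by
      have h5 := herm_act x g f
      rw [hfA x hx] at h5
      rw [herm_sub_left, h5, sub_self]
    obtain ⟨c, d, hcd⟩ := span_two hf2 hf hf0 hg hgli _ hm
    rw [hcd, herm_add_left, herm_smul_left, herm_smul_left, hff, mul_zero, zero_add] at hmf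
    rw [(mul_eq_zero.1 hmf).resolve_right hgf, zero_smul, add_zero] at hcd
    exact ⟨c, by rw [← hcd, add_sub_cancel]⟩
  have hl : ∀ x ∈ A, x ≠ 1 → act x g = g + (-(hermForm 6 F 2 f g) * (hermForm 6 F 2 g f)⁻¹) • f := by
    intro x hx hx1
    obtain ⟨l, hl⟩ := hdiff x hx
    have hl0 : l ≠ 0 := by
      rintro rfl
      rw [zero_smul, add_zero] at hl
      exact hx1 (hext f g hf hf0 hg hgli x hx (hfA x hx) hl)
    have h5 := herm_act x g g
    rw [hl, herm_add_left, herm_add_right hF, herm_add_right hF, herm_smul_left, herm_smul_left, herm_smul_right,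
      herm_smul_right, hff] at h5
    have h6 : l * (hermForm 6 F 2 f g + l * hermForm 6 F 2 g f) = 0 := by linear_combination h5
    have h7 := (mul_eq_zero.1 h6).resolve_left hl0
    rw [hl]
    congr 2
    field_simp
    linear_combination h7
  have h5 : act (b⁻¹ * a) g = g := by
    rw [act_mul, hl a ha ha1, ← hl b hb hb1, ← act_mul, inv_mul_cancel, act_one]
  have h6 := hext f g hf hf0 hg hgli _ (A.mul_mem (A.inv_mem hb) ha) (hfA _ (A.mul_mem (A.inv_mem hb) ha)) h5
  exact (inv_mul_eq_one.1 h6).symm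

end Cfsg.Agent.H251.Der.Geo
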