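import Cfsg.Agent.H251.Der.SixThreeB
import Cfsg.Agent.H251.Der.U52
import Cfsg.Agent.H251.Der.U62

/-!
# `U₆(2)`: the subgroups whose order is divisible by 5, not by 7 and 11 (helper251, for S3502)
-/

set_option autoImplicit false

namespace Cfsg.Agent.H251.Der

open Subgroup Cfsg Matrix Module Cfsg.Agent.H396 Cfsg.Agent.OrdDiv Cfsg.Agent.H251.Small Cfsg.Agent.H439.Der
open Cfsg.Agent.LieClassical.HermSiegel Cfsg.Agent.LieClassical.SUBasic Cfsg.Agent.LieClassical.HermBasic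
open Cfsg.Agent.ClassicalGeometry.PSUAutBasic
open Cfsg.Agent.H372 (herm_of_mul)

section G

variable {F : Type*} [Field F] [Fintype F]

theorem scal_of_pr (hF : Fintype.card F = 2 ^ 2) {x y : SU 6 F 2} (h : pr 6 F 2 x = pr 6 F 2 y) :
    ∃ κ : F, ∀ u, act x u = κ • act y u := by
  obtain ⟨c, h6, h3, h1⟩ := mat_pr hF (by norm_num) (x := y) (y := x) h.symm
  refine ⟨c, fun u => ?_⟩
  change mat x *ᵥ u = c • (mat y *ᵥ u)
  rw [h1, Matrix.smul_mulVec]

theorem pr_of_scal {x : SU 6 F 2} {κ : F} (h : ∀ u, act x u = κ • u) : pr 6 F 2 x = 1 := by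
  have h1 : x ∈ (pr 6 F 2).ker := by
    rw [pr, QuotientGroup.ker_mk', Subgroup.mem_center_iff]
    intro g
    apply ext_act
    intro u
    rw [act_mul, act_mul, h, h, act_smul]
  exact h1

/-- a scalar -/
theorem exists_scal (hF : Fintype.card F = 2 ^ 2) : ∃ z : SU 6 F 2, z ≠ 1 ∧ pr 6 F 2 z = 1 := by
  obtain ⟨w, hw3, hw1, hw0, hww, h2⟩ := exists_omega hF
  have hcw : conj hF w = w ^ 2 := by rw [conj_apply]
  have hdet : (w • (1 : Matrix (Fin 6) (Fin 6) F)).det = 1 := by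
    rw [Matrix.det_smul, Matrix.det_one, mul_one, Fintype.card_fin, show w ^ 6 = (w ^ 3) ^ 2 by ring, hw3, one_pow]
  have hherm : (w • (1 : Matrix (Fin 6) (Fin 6) F))ᵀ * (w • (1 : Matrix (Fin 6) (Fin 6) F)).map (conj hF) = 1 := by
    ext a b
    fin_cases a <;> fin_cases b <;> simp [Matrix.mul_apply, Matrix.one_apply, hcw] <;> linear_combination hw3
  let z : SU 6 F 2 := mkSU (w • 1) hdet (herm_of_mul hF hherm)
  have hz : mat z = w • 1 := rfl
  refine ⟨z, ?_, pr_of_scal (κ := w) fun u => ?_⟩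
  · intro h
    have h1 := congrFun (congrFun (hz.symm.trans ((congrArg mat h).trans mat_one)) 0) 0
    simp at h1
    exact hw1 h1
  · change mat z *ᵥ u = w • u
    rw [hz, Matrix.smul_mulVec, Matrix.one_mulVec]

/-- 3-subgroups centralizing an element of order 5 have order at most 3 -/
theorem three_cent_psu (hF : Fintype.card F = 2 ^ 2) {x : PSU 6 F 2} (hx : orderOf x = 5) {S : Subgroup (PSU 6 F 2)}
    (hS : IsPGroup 3 S) (hc : ∀ s ∈ S, s * x = x * s) : Nat.card S < 9 := by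
  have : Finite (PSU 6 F 2) := inferInstance
  obtain ⟨v, hv, hv5, hv1⟩ := exists_lift6 hF (p := 5) (by norm_num) (by norm_num) hx
  have h3p : Fact (Nat.Prime 3) := ⟨by norm_num⟩
  have hker : IsPGroup 3 (pr 6 F 2).ker := fun z => ⟨1, Subtype.ext (by
    rw [pow_one]
    exact (pr6_ker hF z.2).1)⟩
  have hS' : IsPGroup 3 (S.comap (pr 6 F 2)) := hS.comap_of_ker_isPGroup _ hker
  have h9 := Geo.card_three_le hF hv5 hv1 hS' (fun a ha => comm_lift6 hF (p := 5) (by norm_num) hv5 (by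
    rw [hv]
    exact hc _ ha))
  obtain ⟨z, hz1, hz⟩ := exists_scal hF
  by_contra hcon
  push Not at hcon
  let φ : S.comap (pr 6 F 2) → S := fun a => ⟨pr 6 F 2 a, a.2⟩
  have hφ : Function.Surjective φ := by
    rintro ⟨s, hs⟩
    obtain ⟨a, ha⟩ := pr_surjective s
    exact ⟨⟨a, by rw [Subgroup.mem_comap, ha]; exact hs⟩, Subtype.ext ha⟩
  have hbij := (Nat.bijective_iff_surjective_and_card φ).2 ⟨hφ, le_antisymm (h9.trans hcon)
    (Nat.card_le_card_of_surjective φ hφ)⟩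
  have hzS : z ∈ S.comap (pr 6 F 2) := by rw [Subgroup.mem_comap, hz]; exact S.one_mem
  have h1 := hbij.1 (a₁ := ⟨z, hzS⟩) (a₂ := ⟨1, Subgroup.one_mem _⟩) (Subtype.ext (by
    change pr 6 F 2 z = pr 6 F 2 1
    rw [hz, map_one]))
  exact hz1 (congrArg Subtype.val h1)

end G

variable {F : Type} [Field F] [Fintype F]

theorem dvd_thirty {n : ℕ} (hn : n ∣ 9196830720) (h4 : ¬ 4 ∣ n) (h9 : ¬ 9 ∣ n) (h7 : ¬ 7 ∣ n) (h11 : ¬ 11 ∣ n) :
    n ∣ 30 := by
  have h1 : n ∣ 7 * (11 * (2 ^ 15 * (3 ^ 6 * 5))) := by norm_num; exact hn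
  have h2 := Nat.Coprime.dvd_of_dvd_mul_left (((Nat.Prime.coprime_iff_not_dvd (by norm_num)).2 h7).symm) h1
  have h3 := Nat.Coprime.dvd_of_dvd_mul_left (((Nat.Prime.coprime_iff_not_dvd (by norm_num)).2 h11).symm) h2
  obtain ⟨x, y, hx, hy, rfl⟩ := (Nat.dvd_mul).1 h3
  obtain ⟨t, z, ht, hz, rfl⟩ := (Nat.dvd_mul).1 hy
  obtain ⟨i, -, rfl⟩ := (Nat.dvd_prime_pow Nat.prime_two).1 hx
  obtain ⟨j, -, rfl⟩ := (Nat.dvd_prime_pow Nat.prime_three).1 ht
  have hi : i ≤ 1 := by
    by_contra hi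
    push Not at hi
    exact h4 (((show 4 ∣ 2 ^ i from (show 4 = 2 ^ 2 by norm_num) ▸ pow_dvd_pow 2 hi)).mul_right _)
  have hj : j ≤ 1 := by
    by_contra hj
    push Not at hj
    exact h9 (((show 9 ∣ 3 ^ j from (show 9 = 3 ^ 2 by norm_num) ▸ pow_dvd_pow 3 hj).mul_right z).mul_left _)
  have h5 : 2 ^ i * (3 ^ j * z) ∣ 2 ^ 1 * (3 ^ 1 * 5) :=
    Nat.mul_dvd_mul (pow_dvd_pow 2 hi) (Nat.mul_dvd_mul (pow_dvd_pow 3 hj) hz)
  exact h5.trans (by norm_num)

/-- **the centralizers of the elements of order 5** -/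
theorem cent_five6 (OT : OrderTable.{0})
    (hS : ∀ (X : Type) [Group X] [Finite X] [IsSimpleGroup X], Cfsg.IsKnownSimple' X)
    (hF : Fintype.card F = 2 ^ 2) {P : Subgroup (PSU 6 F 2)} (hP : Nat.card P = 5) :
    Nat.card (centralizer (P : Set (PSU 6 F 2))) ∣ 30 := by
  have hcard := card_u6 hF
  have D := data_u6 OT hS hF
  have := D.fin
  have h5p : Fact (Nat.Prime 5) := ⟨by norm_num⟩
  have h2p : Fact (Nat.Prime 2) := ⟨Nat.prime_two⟩
  have h3p : Fact (Nat.Prime 3) := ⟨by norm_num⟩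
  obtain ⟨x, hx⟩ := exists_prime_orderOf_dvd_card' (G := P) 5 (by rw [hP])
  have hxo : orderOf (x : PSU 6 F 2) = 5 := by rw [Subgroup.orderOf_coe]; exact hx
  have hcx : ∀ c ∈ centralizer (P : Set (PSU 6 F 2)), c * (x : PSU 6 F 2) = x * c := fun c hc =>
    (Subgroup.mem_centralizer_iff.1 hc x x.2).symm
  set C := centralizer (P : Set (PSU 6 F 2)) with hC
  have hbig : ∀ p k M : ℕ, p.Prime → (p, k, M) ∈ [(7, 1, 6), (11, 1, 5)] → ¬ p ∣ Nat.card C := by
    intro p k M hp hm hd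
    have : Fact p.Prime := ⟨hp⟩
    obtain ⟨y, hy⟩ := exists_prime_orderOf_dvd_card' (G := C) p hd
    have hyo : orderOf (y : PSU 6 F 2) = p := by rw [Subgroup.orderOf_coe]; exact hy
    have h1 := (D.cent _ hm (zpowers (y : PSU 6 F 2)) (by rw [Nat.card_zpowers, hyo])).1
    have h2 : (x : PSU 6 F 2) ∈ centralizer ((zpowers (y : PSU 6 F 2) : Subgroup (PSU 6 F 2)) : Set (PSU 6 F 2)) := by
      rw [Subgroup.mem_centralizer_iff]
      intro g hg
      obtain ⟨j, rfl⟩ := Subgroup.mem_zpowers_iff.1 hg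
      exact ((show Commute (y : PSU 6 F 2) (x : PSU 6 F 2) from hcx y y.2).zpow_left j).eq
    have h3 := orderOf_dvd_natCard (⟨x, h2⟩ : centralizer ((zpowers (y : PSU 6 F 2) : Subgroup (PSU 6 F 2)) : Set (PSU 6 F 2)))
    rw [Subgroup.orderOf_mk, hxo] at h3
    have h4 := h3.trans h1
    simp only [List.mem_cons, List.not_mem_nil, or_false, Prod.mk.injEq] at hm
    rcases hm with ⟨rfl, rfl, rfl⟩ | ⟨rfl, rfl, rfl⟩ <;> norm_num at h4
  have hdC : Nat.card C ∣ 9196830720 := by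
    have := Subgroup.card_subgroup_dvd_card C
    rwa [hcard] at this
  refine dvd_thirty hdC ?_ ?_ (hbig 7 1 6 (by norm_num) (by simp)) (hbig 11 1 5 (by norm_num) (by simp))
  · intro h4
    obtain ⟨S, hS⟩ := Sylow.exists_subgroup_card_pow_prime (G := C) 2 (n := 2) (by norm_num; exact h4)
    have hS4 : Nat.card (S.map C.subtype) = 4 := by
      rw [Nat.card_congr (S.equivMapOfInjective _ C.subtype_injective).symm.toEquiv, hS]
      norm_num
    have hSp : IsPGroup 2 (S.map C.subtype) := IsPGroup.of_card (n := 2) (by rw [hS4]; norm_num)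
    have hSc : ∀ s ∈ S.map C.subtype, s * (x : PSU 6 F 2) = x * s := by
      rintro _ ⟨s, -, rfl⟩
      exact hcx s s.2
    classical
    have h2 := Nat.card_le_card_of_injective (fun s : S.map C.subtype => decide ((s : PSU 6 F 2) = 1)) (by
      intro s t hst
      simp only [decide_eq_decide] at hst
      apply Subtype.ext
      by_cases hs : (s : PSU 6 F 2) = 1
      · rw [hs, hst.1 hs]
      · exact two_cent_psu hF hxo hSp hSc s.2 t.2 hs (fun h => hs (hst.2 h)))
    rw [hS4] at h2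
    simp at h2
  · intro h9
    obtain ⟨S, hS⟩ := Sylow.exists_subgroup_card_pow_prime (G := C) 3 (n := 2) (by norm_num; exact h9)
    have hS9 : Nat.card (S.map C.subtype) = 9 := by
      rw [Nat.card_congr (S.equivMapOfInjective _ C.subtype_injective).symm.toEquiv, hS]
      norm_num
    have hSp : IsPGroup 3 (S.map C.subtype) := IsPGroup.of_card (n := 2) (by rw [hS9]; norm_num)
    have h2 := three_cent_psu hF hxo hSp (by
      rintro _ ⟨s, -, rfl⟩
      exact hcx s s.2)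
    omega

theorem data_five6 (OT : OrderTable.{0})
    (hS : ∀ (X : Type) [Group X] [Finite X] [IsSimpleGroup X], Cfsg.IsKnownSimple' X)
    (hF : Fintype.card F = 2 ^ 2) : H970.StabNum.Data (PSU 6 F 2) [(5, 6, 24)] [2, 3, 5, 7, 11] tbl6 := by
  have hcard := card_u6 hF
  have hv : valid [(2, 15), (3, 6), (5, 1), (7, 1), (11, 1)] 9196830720 = true := by decide +kernel
  have : Finite (PSU 6 F 2) := Nat.finite_of_card_ne_zero (by rw [hcard]; norm_num)
  refine H970.TwoSpor.mk_data OT hS hcard hv (by decide +kernel) ?_ ?_ (by decide +kernel) ?_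
  · intro x hx
    simp only [List.mem_cons, List.not_mem_nil, or_false] at hx
    rcases hx with rfl
    norm_num
  · intro r hr
    simp only [List.mem_cons, List.not_mem_nil, or_false] at hr
    rcases hr with rfl | rfl | rfl | rfl | rfl <;> norm_num
  · intro x hx P hP
    simp only [List.mem_cons, List.not_mem_nil, or_false] at hx
    rcases hx with rfl
    have h1 := cent_five6 OT hS hF hP
    have h2 := H393.Sp.card_normalizer_dvd (p := 5) (by norm_num) hP
    exact ⟨h1, h2.trans ((Nat.mul_dvd_mul_right h1 4).trans (by norm_num))⟩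

/-- elements of a normal 3-subgroup centralized by an element of order 3 -/
theorem exists_comm_three {G : Type*} [Group G] [Finite G] {A : Subgroup G} [A.Normal] (h3 : 3 ∣ Nat.card A) {t : G}
    (ht : t ^ 3 = 1) : ∃ a ∈ A, a ≠ 1 ∧ a * t = t * a := by
  have h3p : Fact (Nat.Prime 3) := ⟨by norm_num⟩
  have hP : IsPGroup 3 (zpowers t) := by
    rintro ⟨g, hg⟩
    obtain ⟨k, rfl⟩ := Subgroup.mem_zpowers_iff.1 hg
    refine ⟨1, Subtype.ext ?_⟩
    change (t ^ k) ^ (3 ^ 1) = 1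
    rw [pow_one, ← zpow_natCast, ← _root_.zpow_mul, mul_comm, _root_.zpow_mul, zpow_natCast, ht, _root_.one_zpow]
  let inst : MulAction (zpowers t) A := MulAction.compHom A ((MulAut.conjNormal : G →* MulAut A).comp (zpowers t).subtype)
  have hone : (1 : A) ∈ MulAction.fixedPoints (zpowers t) A := by
    intro g
    change (MulAut.conjNormal ((zpowers t).subtype g) : MulAut A) 1 = 1
    rw [map_one]
  obtain ⟨b, hb, hb1⟩ := hP.exists_fixed_point_of_prime_dvd_card_of_fixed_point A h3 hone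
  refine ⟨b, b.2, fun h => hb1 (Subtype.ext h.symm), ?_⟩
  have h1 : (MulAut.conjNormal t : MulAut A) b = b := hb ⟨t, mem_zpowers t⟩
  have h2 := congrArg Subtype.val h1
  rw [MulAut.conjNormal_apply] at h2
  exact (mul_inv_eq_iff_eq_mul.1 h2).symm

/-- **normal `{2, 3}`-subgroups** -/
theorem six_normal (hF : Fintype.card F = 2 ^ 2) {M : Subgroup (PSU 6 F 2)} {x y g : PSU 6 F 2} (hxM : x ∈ M)
    (hyM : y ∈ M) (hgM : g ∈ M) (hx : orderOf x = 9) (hy : orderOf y = 15) (hg : orderOf g = 8) {K : Subgroup M}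
    [hKn : K.Normal] {a b : ℕ} (hcard : Nat.card K = 2 ^ a * 3 ^ b) : K = ⊥ := by
  by_contra hK
  have hsol : Group.IsSolvable K := Cfsg.Agent.S0144.result 2 3 a b Nat.prime_two Nat.prime_three hcard
  have hTf : Finite (PSU 6 F 2) := inferInstance
  have : Finite M := inferInstance
  obtain ⟨A, p, hAn, hAK, hA, hp, hcomm, hAp⟩ := Cfsg.Agent.H477.exists_elem_normal K hK
  have hp23 : p = 2 ∨ p = 3 := by
    obtain ⟨⟨y, hy⟩, hy1⟩ := Subgroup.ne_bot_iff_exists_ne_one.1 hA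
    have h1 : y ≠ 1 := fun h => hy1 (Subtype.ext h)
    have : Fact p.Prime := ⟨hp⟩
    have h2 : orderOf y = p := orderOf_eq_prime (hAp _ hy) h1
    have h3 : p ∣ 2 ^ a * 3 ^ b := by
      rw [← hcard, ← h2, ← Subgroup.orderOf_mk y (hAK hy)]
      exact orderOf_dvd_natCard _
    rcases (Nat.Prime.dvd_mul hp).1 h3 with h | h
    · exact Or.inl ((Nat.prime_dvd_prime_iff_eq hp Nat.prime_two).1 (hp.dvd_of_dvd_pow h))
    · exact Or.inr ((Nat.prime_dvd_prime_iff_eq hp Nat.prime_three).1 (hp.dvd_of_dvd_pow h))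
  -- the elements
  have hy3 : orderOf (y ^ 3) = 5 := by rw [orderOf_pow' _ (by norm_num), hy]; rfl
  have hy5 : orderOf (y ^ 5) = 3 := by rw [orderOf_pow' _ (by norm_num), hy]; rfl
  obtain ⟨v, hv, hv5, hv1⟩ := exists_lift6 hF (p := 5) (by norm_num) (by norm_num) hy3
  obtain ⟨s, hs⟩ := pr_surjective (y ^ 5)
  obtain ⟨x', hx'⟩ := pr_surjective x
  have hsv : s * v = v * s := comm_lift6 hF (p := 5) (by norm_num) hv5 (by
    rw [hs, hv, ← pow_add, ← pow_add])
  have hs3 : ∃ c : F, ∀ u, act (s ^ 3) u = c • u := by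
    obtain ⟨κ, hκ⟩ := scal_of_pr hF (x := s ^ 3) (y := 1) (by
      rw [map_pow, hs, map_one, ← pow_mul, show 5 * 3 = 15 from rfl, ← hy, pow_orderOf_eq_one])
    exact ⟨κ, fun u => by rw [hκ u, act_one]⟩
  obtain ⟨c, hs3⟩ := hs3
  have hsn : ¬ ∃ μ : F, ∀ u, act s u = μ • u := by
    rintro ⟨μ, hμ⟩
    have h1 := pr_of_scal hμ
    rw [hs] at h1
    rw [h1, orderOf_one] at hy5
    norm_num at hy5
  set M' := M.comap (pr 6 F 2) with hM'
  have hvM : v ∈ M' := by rw [hM', Subgroup.mem_comap, hv]; exact M.pow_mem hyM 3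
  have hsM : s ∈ M' := by rw [hM', Subgroup.mem_comap, hs]; exact M.pow_mem hyM 5
  have hxM' : x' ∈ M' := by rw [hM', Subgroup.mem_comap, hx']; exact hxM
  set B : Subgroup (PSU 6 F 2) := A.map M.subtype with hB
  have hBconj : ∀ g ∈ M, ∀ x ∈ B, g⁻¹ * x * g ∈ B := by
    rintro g hg _ ⟨a, ha, rfl⟩
    refine ⟨(⟨g, hg⟩ : M)⁻¹ * a * ⟨g, hg⟩, ?_, ?_⟩
    · have := hAn.conj_mem a ha (⟨g, hg⟩ : M)⁻¹
      rwa [inv_inv] at this
    · rw [map_mul, map_mul, map_inv]
      rfl
  have hBp : ∀ b ∈ B, b ^ p = 1 := by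
    rintro _ ⟨a, ha, rfl⟩
    rw [← map_pow, hAp a ha, map_one]
  have hBc : ∀ x ∈ B, ∀ y ∈ B, x * y = y * x := by
    rintro _ ⟨a, ha, rfl⟩ _ ⟨b, hb, rfl⟩
    rw [← map_mul, ← map_mul, isMulCommutative_iff_of_setLike.mp hcomm a ha b hb]
  have hBne : B ≠ ⊥ := by
    rw [Ne, hB, Subgroup.map_eq_bot_iff_of_injective _ M.subtype_injective]
    exact hA
  rcases hp23 with rfl | rfl
  · -- 2-groups
    have hBP : IsPGroup 2 B := fun b => ⟨1, Subtype.ext (by rw [pow_one]; exact hBp b b.2)⟩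
    obtain ⟨P, hP, hmap, hnor⟩ := lift_two hBP
    have hx9 : ∃ d : F, ∀ u, act (x' ^ 9) u = d • u := by
      obtain ⟨κ, hκ⟩ := scal_of_pr hF (x := x' ^ 9) (y := 1) (by
        rw [map_pow, hx', map_one, ← hx, pow_orderOf_eq_one])
      exact ⟨κ, fun u => by rw [hκ u, act_one]⟩
    obtain ⟨d, hx9⟩ := hx9
    have hx3 : x' ^ 3 ≠ 1 := by
      intro h
      have h1 : x ^ 3 = 1 := by rw [← hx', ← map_pow, h, map_one]
      have h2 := orderOf_dvd_of_pow_eq_one h1
      rw [hx] at h2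
      norm_num at h2
    have hP0 := Geo.six_two hF hvM hsM hxM' hv5 hv1 hsv hs3 hsn hx9 hx3 hP (by
      intro g hg a ha
      have hgn : pr 6 F 2 g ∈ normalizer (B : Set (PSU 6 F 2)) := by
        have : Finite B := inferInstance
        have h1 := Subgroup.mem_normalizer_fintype (S := (B : Set (PSU 6 F 2))) (x := (pr 6 F 2 g)⁻¹) (by
          intro b hb
          rw [inv_inv]
          exact hBconj _ hg b hb)
        exact (inv_mem_iff).1 h1
      exact ((Subgroup.mem_normalizer_iff'').1 (hnor g hgn) a).1 ha)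
    apply hBne
    rw [← hmap, hP0, Subgroup.map_bot]
  · -- 3-groups
    have h3A : 3 ∣ Nat.card A := by
      obtain ⟨⟨z, hz⟩, hz1⟩ := Subgroup.ne_bot_iff_exists_ne_one.1 hA
      have h1 : z ≠ 1 := fun h => hz1 (Subtype.ext h)
      have : Fact (Nat.Prime 3) := ⟨hp⟩
      have h2 : orderOf z = 3 := orderOf_eq_prime (hAp _ hz) h1
      rw [← h2, ← Subgroup.orderOf_mk z hz]
      exact orderOf_dvd_natCard _
    obtain ⟨b, hbA, hb1, hbt⟩ := exists_comm_three (A := A) h3A (t := (⟨y ^ 5, M.pow_mem hyM 5⟩ : M))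
      (Subtype.ext (by
        change (y ^ 5) ^ 3 = 1
        rw [← pow_mul, show 5 * 3 = 15 from rfl, ← hy, pow_orderOf_eq_one]))
    obtain ⟨b', hb'⟩ := pr_surjective (b : PSU 6 F 2)
    have hcm := Geo.six_three hF (M := M') (A := B.comap (pr 6 F 2)) hvM hv5 hv1 hsv hs3 hsn
      (fun a ha b hb => by
        apply scal_of_pr hF
        rw [map_mul, map_mul]
        exact hBc _ ha _ hb)
      (fun a ha => by
        obtain ⟨κ, hκ⟩ := scal_of_pr hF (x := a ^ 3) (y := 1) (by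
          rw [map_pow, map_one]
          exact hBp _ ha)
        exact ⟨κ, fun u => by rw [hκ u, act_one]⟩)
      (fun g hg a ha => by
        rw [Subgroup.mem_comap, map_mul, map_mul, map_inv]
        exact hBconj _ hg _ ha)
      (b := b') (by rw [Subgroup.mem_comap, hb']; exact ⟨b, hbA, rfl⟩)
      (by
        rintro ⟨μ, hμ⟩
        have h1 := pr_of_scal hμ
        rw [hb'] at h1
        exact hb1 (Subtype.ext h1))
      (by
        apply scal_of_pr hF
        rw [map_mul, map_mul, hb', hs]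
        exact congrArg Subtype.val hbt)
    obtain ⟨g', hg', hg8, -⟩ := exists_lift6 hF (p := 8) (by norm_num) (by norm_num) hg
    have h4 := Geo.no_eight_cm hF hv5 hv1 (hcm g' (by rw [hM', Subgroup.mem_comap, hg']; exact hgM)) hg8
    have h5 : g ^ 4 = 1 := by rw [← hg', ← map_pow, h4, map_one]
    have h6 := orderOf_dvd_of_pow_eq_one h5
    rw [hg] at h6
    norm_num at h6

end Cfsg.Agent.H251.Der
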