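import Cfsg.Agent.H251.Der.SixThree
import Cfsg.Agent.H251.Der.FiveMain

/-!
# `SU_6(2)`: normal 3-subgroups in the presence of an element of order 15 (helper251, for S3502)
-/

set_option autoImplicit false

namespace Cfsg.Agent.H251.Der.Geo

open Cfsg Matrix Module
open Cfsg.Agent.LieClassical.HermBasic Cfsg.Agent.LieClassical.HermSiegel Cfsg.Agent.LieClassical.SUBasic
open Cfsg.Agent.H918 (hperp mem_hperp finrank_hperp_ge)
open Cfsg.Agent.H951 Cfsg.Agent.H950

variable {F : Type*} [Field F] [Fintype F] {n : ℕ}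

theorem orbit_orth (hF : Fintype.card F = 2 ^ 2) {A : Subgroup (SU n F 2)} {v : SU n F 2} (hv : v ^ 5 = 1)
    (hvA : ∀ g ∈ Subgroup.zpowers v, ∀ a ∈ A, g⁻¹ * a * g ∈ A) {w : Fin n → F} (hw : JE A w)
    (hvw : act v w ∉ Vs A w) :
    ∀ i j : Fin 5, i ≠ j → hermForm n F 2 (act (v ^ (i : ℕ)) w) (act (v ^ (j : ℕ)) w) = 0 := by
  have hpowM : ∀ k : ℕ, v ^ k ∈ Subgroup.zpowers v := fun k => Subgroup.pow_mem _ (Subgroup.mem_zpowers v) k
  have hJ : ∀ k : ℕ, JE A (act (v ^ k) w) := fun k => hw.map (hvA _ (hpowM k))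
  have hk : ∀ k : ℕ, k ∈ [1, 2, 3, 4] → act (v ^ k) w ∉ Vs A w := by
    intro k hk hmem
    have h1 : Vs A (act (v ^ k) w) = Vs A w := Vs_eq_of_mem hF hw (hJ k) hmem
    have h2 : ∀ m : ℕ, act ((v ^ k) ^ m) w ∈ Vs A w := by
      intro m
      induction m with
      | zero => rw [pow_zero, act_one]; exact self_mem_Vs A w
      | succ m ih =>
        rw [pow_succ', act_mul, ← h1]
        exact act_mem_Vs (hvA _ (hpowM k)) ih
    apply hvw
    simp only [List.mem_cons, List.not_mem_nil, or_false] at hk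
    have h6 : ∀ m j : ℕ, v ^ (5 * j + m) = v ^ m := fun m j => by rw [pow_add, pow_mul, hv, one_pow, one_mul]
    rcases hk with rfl | rfl | rfl | rfl
    · simpa using h2 1
    · have := h2 3
      rw [← pow_mul, show 2 * 3 = 5 * 1 + 1 by norm_num, h6, pow_one] at this
      exact this
    · have := h2 2
      rw [← pow_mul, show 3 * 2 = 5 * 1 + 1 by norm_num, h6, pow_one] at this
      exact this
    · have := h2 4
      rw [← pow_mul, show 4 * 4 = 5 * 3 + 1 by norm_num, h6, pow_one] at this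
      exact this
  have horth : ∀ i j : Fin 5, i < j → hermForm n F 2 (act (v ^ (i : ℕ)) w) (act (v ^ (j : ℕ)) w) = 0 := by
    intro i j hij
    rcases Vs_eq_or hF (hJ i) (hJ j) with hEq | h
    · exfalso
      have h1 : act (v ^ (j : ℕ)) w ∈ Vs A (act (v ^ (i : ℕ)) w) := by
        rw [hEq]; exact self_mem_Vs A _
      have h2 := act_mem_Vs (g := (v ^ (i : ℕ))⁻¹) (hvA _ (Subgroup.inv_mem _ (hpowM i))) h1
      rw [act_inv_act, ← act_mul] at h2
      have h3 : (v ^ (i : ℕ))⁻¹ * v ^ (j : ℕ) = v ^ ((j : ℕ) - i) := by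
        rw [inv_mul_eq_iff_eq_mul, ← pow_add]
        congr 1
        have : (i : ℕ) < j := hij
        omega
      rw [h3] at h2
      refine hk _ ?_ h2
      have h4 : (i : ℕ) < j := hij
      have h5 := j.2
      simp only [List.mem_cons, List.not_mem_nil, or_false]
      omega
    · exact h _ (self_mem_Vs A _) _ (self_mem_Vs A _)
  intro i j hij
  rcases lt_or_gt_of_ne hij with h | h
  · exact horth i j h
  · exact herm_eq_zero_swap hF (horth j i h)

omit [Fintype F] in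
theorem no_five_orth {U : Submodule F (Fin n → F)} (hU : finrank F U ≤ 4) {E : Fin 5 → (Fin n → F)}
    (hEU : ∀ i, E i ∈ U) (ho : ∀ i j, i ≠ j → hermForm n F 2 (E i) (E j) = 0)
    (hE : ∀ i, hermForm n F 2 (E i) (E i) ≠ 0) : False := by
  have hli : LinearIndependent F E := by
    rw [Fintype.linearIndependent_iff]
    intro g hg i
    have h1 : hermForm n F 2 (∑ j, g j • E j) (E i) = 0 := by rw [hg]; exact herm_zero_left _
    rw [herm_sum_left, Finset.sum_eq_single i] at h1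
    · rw [herm_smul_left] at h1
      exact (mul_eq_zero.1 h1).resolve_right (hE i)
    · intro j _ hj
      rw [herm_smul_left, ho j i hj, mul_zero]
    · intro h
      exact absurd (Finset.mem_univ i) h
  have hli' : LinearIndependent F (fun i => (⟨E i, hEU i⟩ : U)) := LinearIndependent.of_comp U.subtype hli
  have h := hli'.fintype_card_le_finrank
  rw [Fintype.card_fin] at h
  omega

/-- abelian groups of exponent 3 normalized by `v` act by scalars on the commutator space -/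
theorem scal_of_abel (hF : Fintype.card F = 2 ^ 2) {v : SU 6 F 2} (hv : v ^ 5 = 1) (hv1 : v ≠ 1)
    {D : Subgroup (SU 6 F 2)} (hc : ∀ a ∈ D, ∀ b ∈ D, a * b = b * a) (h3 : ∀ a ∈ D, a ^ 3 = 1)
    (hvD : ∀ g ∈ Subgroup.zpowers v, ∀ a ∈ D, g⁻¹ * a * g ∈ D)
    (hcm : ∀ a ∈ D, ∀ u ∈ cm (actL v), act a u ∈ cm (actL v)) :
    ∀ a ∈ D, ∃ κ : F, ∀ u ∈ cm (actL v), act a u = κ • u := by
  have hB := frm_herm hF 6
  obtain ⟨hd4, hf2⟩ := five_dims hF hv hv1
  have hne : cm (actL v) ≠ ⊥ := by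
    intro h
    rw [h, finrank_bot] at hd4
    omega
  obtain ⟨w, hwc, hw⟩ := exists_JE hF hc h3 _ (cm (actL v)) rfl hne (nd_cm hF (five_ne hF) hv) hcm
  have hpow : ∀ k : ℕ, act (v ^ k) w ∈ cm (actL v) := by
    intro k
    induction k with
    | zero => rw [pow_zero, act_one]; exact hwc
    | succ k ih => rw [pow_succ', act_mul]; exact inv_cm _ ih
  have hvw : act v w ∈ Vs D w := by
    by_contra hvw
    exact no_five_orth (U := cm (actL v)) hd4.le (E := fun i => act (v ^ (i : ℕ)) w) (fun i => hpow i)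
      (orbit_orth hF hv hvD hw hvw) (fun i => (hw.map (hvD _ (Subgroup.pow_mem _ (Subgroup.mem_zpowers v) i))).1)
  have hinv : ∀ u ∈ Vs D w, act v u ∈ Vs D w := by
    intro u hu
    have h1 := act_mem_Vs (hvD v (Subgroup.mem_zpowers v)) hu
    rwa [Vs_eq_of_mem hF hw (hw.map (hvD v (Subgroup.mem_zpowers v))) hvw] at h1
  have hnd := (isom_actL v).nd_inf_cm hB (five_ne hF) (actL_pow_one hv) hinv (nd_Vs hF hc h3 hw)
  have h4 := four_dvd hF hv (W := Vs D w ⊓ cm (actL v)) (fun u hu => ⟨hinv u hu.1, inv_cm u hu.2⟩) hnd (by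
    rw [inf_assoc, cm_inf_fx (five_ne hF) hv, inf_bot_eq])
  have hne2 : finrank F (Vs D w ⊓ cm (actL v) : Submodule F (Fin 6 → F)) ≠ 0 := by
    intro h
    rw [Submodule.finrank_eq_zero] at h
    have h1 : w ∈ Vs D w ⊓ cm (actL v) := ⟨self_mem_Vs D w, hwc⟩
    rw [h, Submodule.mem_bot] at h1
    exact hw.ne h1
  have hle := Submodule.finrank_mono (inf_le_right : Vs D w ⊓ cm (actL v) ≤ cm (actL v))
  have heq : Vs D w ⊓ cm (actL v) = cm (actL v) := Submodule.eq_of_le_of_finrank_eq inf_le_right (by omega)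
  intro a ha
  obtain ⟨κ, hκ⟩ := hw.2 a ha
  refine ⟨κ, fun u hu => ?_⟩
  rw [← heq] at hu
  exact hu.1 a ha κ hκ

/-- the eigenspace -/
theorem mem_cm_of_eig (hF : Fintype.card F = 2 ^ 2) {v s : SU 6 F 2} (hv : v ^ 5 = 1) (hv1 : v ≠ 1)
    (hc : s * v = v * s) {μ : F} (h3 : s ^ 3 = 1) (hμ : μ ≠ 0) (hcm : ∀ u ∈ cm (actL v), act s u = μ • u)
    (hsn : ¬ ∃ μ : F, ∀ u, act s u = μ • u) {u : Fin 6 → F} (hu : act s u = μ • u) : u ∈ cm (actL v) := by
  obtain ⟨p, hp, q, hq, rfl⟩ := Submodule.mem_sup.1 (show u ∈ fx (actL v) ⊔ cm (actL v) by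
    rw [fx_sup_cm (five_ne hF) hv]; exact Submodule.mem_top)
  by_cases hp0 : p = 0
  · rw [hp0, zero_add]
    exact hq
  · exfalso
    rw [act_add, hcm q hq, smul_add] at hu
    exact hsn ⟨μ, scal_of_ev hF hv hv1 hc h3 hμ hcm hp hp0 (add_right_cancel hu)⟩

/-- elements commuting with `s` commute with `v` -/
theorem comm_of_comm (hF : Fintype.card F = 2 ^ 2) {v s : SU 6 F 2} (hv : v ^ 5 = 1) (hv1 : v ≠ 1)
    (hc : s * v = v * s) {μ : F} (h3 : s ^ 3 = 1) (hμ : μ ≠ 0) (hcm : ∀ u ∈ cm (actL v), act s u = μ • u)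
    (hsn : ¬ ∃ μ : F, ∀ u, act s u = μ • u) {A : Subgroup (SU 6 F 2)}
    (hA : ∀ a ∈ A, ∀ b ∈ A, ∃ κ : F, ∀ u, act (a * b) u = κ • act (b * a) u)
    (hA3 : ∀ a ∈ A, ∃ κ : F, ∀ u, act (a ^ 3) u = κ • u)
    (hvA : ∀ g ∈ Subgroup.zpowers v, ∀ a ∈ A, g⁻¹ * a * g ∈ A) {b : SU 6 F 2} (hb : b ∈ A) (hbs : b * s = s * b) :
    b * v = v * b := by
  have hB := frm_herm hF 6
  obtain ⟨hd4, hf2⟩ := five_dims hF hv hv1
  have hcomm : ∀ g ∈ Subgroup.zpowers v, g * s = s * g := by
    intro g hg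
    obtain ⟨k, rfl⟩ := Subgroup.mem_zpowers_iff.1 hg
    exact ((show Commute s v from hc).zpow_right k).eq.symm
  have hfixg : ∀ g ∈ Subgroup.zpowers v, ∀ u ∈ fx (actL v), act g u = u := by
    intro g hg u hu
    obtain ⟨k, rfl⟩ := Subgroup.mem_zpowers_iff.1 hg
    have h1 : act v u = u := mem_fx.1 hu
    let S : Subgroup (SU 6 F 2) :=
      { carrier := {a | act a u = u}
        one_mem' := act_one u
        mul_mem' := fun {a b} ha hb => by
          change act (a * b) u = u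
          rw [act_mul, show act b u = u from hb]
          exact ha
        inv_mem' := fun {a} ha => by
          change act a⁻¹ u = u
          have h2 := congrArg (act a⁻¹) (show act a u = u from ha)
          rw [act_inv_act] at h2
          exact h2.symm }
    exact S.zpow_mem (show v ∈ S from h1) k
  have hpres : ∀ b : SU 6 F 2, b * s = s * b → ∀ u ∈ cm (actL v), act b u ∈ cm (actL v) := by
    intro b hbs u hu
    apply mem_cm_of_eig hF hv hv1 hc h3 hμ hcm hsn
    rw [← act_mul, ← hbs, act_mul, hcm u hu, act_smul]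
  have hpres' : ∀ b : SU 6 F 2, b * s = s * b → ∀ u ∈ fx (actL v), act b u ∈ fx (actL v) := by
    intro b hbs u hu
    obtain ⟨p, hp, q, hq, hpq⟩ := Submodule.mem_sup.1 (show act b u ∈ fx (actL v) ⊔ cm (actL v) by
      rw [fx_sup_cm (five_ne hF) hv]; exact Submodule.mem_top)
    have hq0 : q = 0 := by
      by_contra hq0
      obtain ⟨t, ht, hqt⟩ := nd_cm hF (five_ne hF) hv q hq hq0
      apply hqt
      have hbi : b⁻¹ * s = s * b⁻¹ := ((show Commute b s from hbs).inv_left).eq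
      have h1 := herm_act b u (act b⁻¹ t)
      rw [act_act_inv, herm_fx_cm hF (mem_fx.1 hu) (hpres _ hbi t ht), ← hpq, herm_add_left,
        herm_fx_cm hF (mem_fx.1 hp) ht, zero_add] at h1
      exact h1
    rw [← hpq, hq0, add_zero]
    exact hp
  let D : Subgroup (SU 6 F 2) :=
    { carrier := {d | d ∈ A ∧ d * s = s * d ∧ ∀ u ∈ fx (actL v), act d u = u}
      one_mem' := ⟨A.one_mem, by rw [one_mul, mul_one], fun u _ => act_one u⟩
      mul_mem' := fun {a b} ha hb => ⟨A.mul_mem ha.1 hb.1,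
        ((show Commute a s from ha.2.1).mul_left (show Commute b s from hb.2.1)).eq,
        fun u hu => by rw [act_mul, hb.2.2 u hu, ha.2.2 u hu]⟩
      inv_mem' := fun {a} ha => ⟨A.inv_mem ha.1, ((show Commute a s from ha.2.1).inv_left).eq, fun u hu => by
        have h2 := congrArg (act a⁻¹) (ha.2.2 u hu)
        rw [act_inv_act] at h2
        exact h2.symm⟩ }
  have hfne : fx (actL v) ≠ ⊥ := by
    intro h
    rw [h, finrank_bot] at hf2
    omega
  obtain ⟨f, hf, hf0⟩ := Submodule.exists_mem_ne_zero_of_ne_bot hfne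
  have hone : ∀ {κ : F}, f = κ • f → κ = 1 := by
    intro κ h
    have h1 : (κ - 1) • f = 0 := by rw [sub_smul, one_smul, ← h, sub_self]
    exact sub_eq_zero.1 ((smul_eq_zero.1 h1).resolve_right hf0)
  have hDc : ∀ a ∈ D, ∀ b ∈ D, a * b = b * a := by
    intro a ha b hb
    obtain ⟨κ, hκ⟩ := hA a ha.1 b hb.1
    have h1 := hκ f
    rw [(D.mul_mem ha hb).2.2 f hf, (D.mul_mem hb ha).2.2 f hf] at h1
    rw [hone h1] at hκ
    apply ext_act
    intro u
    rw [hκ u, one_smul]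
  have hD3 : ∀ a ∈ D, a ^ 3 = 1 := by
    intro a ha
    obtain ⟨κ, hκ⟩ := hA3 a ha.1
    have h1 := hκ f
    rw [(D.pow_mem ha 3).2.2 f hf] at h1
    rw [hone h1] at hκ
    apply ext_act
    intro u
    rw [hκ u, one_smul, act_one]
  have hvD : ∀ g ∈ Subgroup.zpowers v, ∀ a ∈ D, g⁻¹ * a * g ∈ D := by
    intro g hg a ha
    refine ⟨hvA g hg a ha.1, ?_, ?_⟩
    · have hgs : Commute g s := hcomm g hg
      exact ((hgs.inv_left.mul_left (show Commute a s from ha.2.1)).mul_left hgs).eq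
    · intro u hu
      rw [act_mul, act_mul, hfixg g hg u hu, ha.2.2 u hu, hfixg _ (Subgroup.inv_mem _ hg) u hu]
  have hscal := scal_of_abel hF hv hv1 hDc hD3 hvD (fun a ha => hpres a ha.2.1)
  have hDv : ∀ d ∈ D, d * v = v * d := by
    intro d hd
    obtain ⟨κ, hκ⟩ := hscal d hd
    apply ext_act
    intro u
    obtain ⟨p, hp, q, hq, rfl⟩ := Submodule.mem_sup.1 (show u ∈ fx (actL v) ⊔ cm (actL v) by
      rw [fx_sup_cm (five_ne hF) hv]; exact Submodule.mem_top)
    have hvp : act v p = p := mem_fx.1 hp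
    have hvq : act d (act v q) = κ • act v q := hκ _ (inv_cm q hq)
    rw [act_mul, act_mul, act_add, act_add, hvp, act_add, act_add, hd.2.2 p hp, hvp, hκ q hq, hvq, act_smul]
  -- the commutator
  have hvz : v ∈ Subgroup.zpowers v := Subgroup.mem_zpowers v
  set d := v * b * v⁻¹ * b⁻¹ with hd
  have hvbv : v * b * v⁻¹ ∈ A := by
    have := hvA v⁻¹ (Subgroup.inv_mem _ hvz) b hb
    rwa [inv_inv] at this
  have hvs : Commute v s := (show Commute s v from hc).symm
  have hbs' : Commute b s := hbs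
  have hdD : d ∈ D := by
    refine ⟨A.mul_mem hvbv (A.inv_mem hb), (((hvs.mul_left hbs').mul_left hvs.inv_left).mul_left hbs'.inv_left).eq, ?_⟩
    intro u hu
    have h1 : act b⁻¹ u ∈ fx (actL v) := hpres' _ hbs'.inv_left.eq u hu
    rw [hd, act_mul, act_mul, act_mul, hfixg _ (Subgroup.inv_mem _ hvz) _ h1, act_act_inv, hfixg v hvz u hu]
  have hdv := hDv d hdD
  have h5 : ∀ k : ℕ, v ^ k * b * (v ^ k)⁻¹ = d ^ k * b := by
    intro k
    induction k with
    | zero => simp
    | succ k ih =>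
      have h6 : v * b * v⁻¹ = d * b := by rw [hd, inv_mul_cancel_right]
      have hdk : v * d ^ k * v⁻¹ = d ^ k := by
        rw [mul_inv_eq_iff_eq_mul]
        exact ((show Commute d v from hdv).pow_left k).eq.symm
      calc v ^ (k + 1) * b * (v ^ (k + 1))⁻¹ = v * (v ^ k * b * (v ^ k)⁻¹) * v⁻¹ := by rw [pow_succ']; group
        _ = v * (d ^ k * b) * v⁻¹ := by rw [ih]
        _ = (v * d ^ k * v⁻¹) * (v * b * v⁻¹) := by group
        _ = d ^ (k + 1) * b := by rw [hdk, h6, ← mul_assoc, ← pow_succ]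
  have h6 := h5 5
  rw [hv, one_mul, inv_one, mul_one] at h6
  have h7 : d ^ 5 = 1 := by
    have := congrArg (· * b⁻¹) h6
    simp only [mul_inv_cancel, mul_inv_cancel_right] at this
    exact this.symm
  have h8 := hD3 d hdD
  have h9 : d = 1 := by
    calc d = d ^ 3 * d ^ 3 * (d ^ 5)⁻¹ := by
            rw [← pow_add, mul_inv_eq_iff_eq_mul.2]
            rw [← pow_succ']
      _ = 1 := by rw [h7, h8]; simp
  rw [hd, mul_inv_eq_one, mul_inv_eq_iff_eq_mul] at h9
  exact h9.symm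

omit [Fintype F] in
theorem finrank_map_act {U : Submodule F (Fin n → F)} (g : SU n F 2) : finrank F (U.map (actL g)) = finrank F U :=
  (Submodule.equivMapOfInjective (actL g) (act_injective g) U).finrank_eq.symm

/-- a subspace of dimension 4 is not mapped to a complement -/
theorem exists_meet (hF : Fintype.card F = 2 ^ 2) {v : SU 6 F 2} (hv : v ^ 5 = 1) (hv1 : v ≠ 1) (g : SU 6 F 2) :
    ∃ u ∈ cm (actL v), u ≠ 0 ∧ act g u ∈ cm (actL v) := by
  obtain ⟨hd4, hf2⟩ := five_dims hF hv hv1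
  by_contra hcon
  push Not at hcon
  have h1 : (cm (actL v)).map (actL g) ⊓ cm (actL v) = ⊥ := by
    rw [eq_bot_iff]
    rintro _ ⟨⟨u, hu, rfl⟩, hu'⟩
    by_cases h0 : u = 0
    · rw [h0, map_zero]; exact Submodule.zero_mem _
    · exact absurd hu' (hcon u hu h0)
  have h2 := Submodule.finrank_sup_add_finrank_inf_eq ((cm (actL v)).map (actL g)) (cm (actL v))
  rw [h1, finrank_bot, finrank_map_act, hd4] at h2
  have h3 := Submodule.finrank_le ((cm (actL v)).map (actL g) ⊔ cm (actL v))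
  rw [Module.finrank_fintype_fun_eq_card, Fintype.card_fin] at h3
  omega

/-- commuting up to scalars -/
theorem comm_of_scal (hF : Fintype.card F = 2 ^ 2) {v s : SU 6 F 2} (hv : v ^ 5 = 1) (hv1 : v ≠ 1)
    {μ : F} (hμ : μ ≠ 0) (hcm : ∀ u ∈ cm (actL v), act s u = μ • u)
    {b : SU 6 F 2} {κ : F} (h : ∀ u, act (b * s) u = κ • act (s * b) u) : b * s = s * b := by
  obtain ⟨u, hu, hu0, hbu⟩ := exists_meet hF hv hv1 b
  have h1 := h u
  rw [act_mul, act_mul, hcm u hu, hcm _ hbu, act_smul, smul_smul] at h1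
  have hbu0 : act b u ≠ 0 := by rwa [Ne, act_eq_zero]
  have h2 : (μ - κ * μ) • act b u = 0 := by rw [sub_smul, h1, sub_self]
  have h3 : μ * (1 - κ) = 0 := by
    have := (smul_eq_zero.1 h2).resolve_right hbu0
    linear_combination this
  have h4 : κ = 1 := (sub_eq_zero.1 ((mul_eq_zero.1 h3).resolve_left hμ)).symm
  apply ext_act
  intro u
  rw [h u, h4, one_smul]

/-- **normal 3-subgroups in the presence of an element of order 15** -/
theorem six_three (hF : Fintype.card F = 2 ^ 2) {M A : Subgroup (SU 6 F 2)} {v s : SU 6 F 2} (hvM : v ∈ M)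
    (hv : v ^ 5 = 1) (hv1 : v ≠ 1) (hc : s * v = v * s) {c : F} (hs3 : ∀ u, act (s ^ 3) u = c • u)
    (hsn : ¬ ∃ μ : F, ∀ u, act s u = μ • u)
    (hA : ∀ a ∈ A, ∀ b ∈ A, ∃ κ : F, ∀ u, act (a * b) u = κ • act (b * a) u)
    (hA3 : ∀ a ∈ A, ∃ κ : F, ∀ u, act (a ^ 3) u = κ • u)
    (hMA : ∀ g ∈ M, ∀ a ∈ A, g⁻¹ * a * g ∈ A) {b : SU 6 F 2} (hbA : b ∈ A)
    (hbn : ¬ ∃ μ : F, ∀ u, act b u = μ • u) (hbs : ∃ κ : F, ∀ u, act (b * s) u = κ • act (s * b) u) :
    ∀ g ∈ M, ∀ u ∈ cm (actL v), act g u ∈ cm (actL v) := by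
  have hvA : ∀ g ∈ Subgroup.zpowers v, ∀ a ∈ A, g⁻¹ * a * g ∈ A := by
    intro g hg
    exact hMA g ((Subgroup.zpowers_le.2 hvM) hg)
  obtain ⟨h3, μ, hμ, hcm⟩ := scal_cm hF hv hv1 hc hs3
  obtain ⟨κ, hκ⟩ := hbs
  have hbs := comm_of_scal hF hv hv1 hμ hcm hκ
  have hbv := comm_of_comm hF hv hv1 hc h3 hμ hcm hsn hA hA3 hvA hbA hbs
  obtain ⟨c', hb3⟩ := hA3 b hbA
  obtain ⟨hb3, ν, hν, hbcm⟩ := scal_cm hF hv hv1 hbv hb3
  have hall : ∀ a ∈ A, a * v = v * a := by
    intro a ha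
    obtain ⟨κ, hκ⟩ := hA a ha b hbA
    exact comm_of_comm hF hv hv1 hbv hb3 hν hbcm hbn hA hA3 hvA ha (comm_of_scal hF hv hv1 hν hbcm hκ)
  intro g hg u hu
  set a := g * b * g⁻¹ with ha
  have haA : a ∈ A := by
    have := hMA g⁻¹ (M.inv_mem hg) b hbA
    rwa [inv_inv] at this
  have hag : ∀ t, act a (act g t) = act g (act b t) := by
    intro t
    rw [← act_mul, ← act_mul, ha, inv_mul_cancel_right]
  have han : ¬ ∃ μ : F, ∀ u, act a u = μ • u := by
    rintro ⟨κ, hκ⟩
    apply hbn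
    refine ⟨κ, fun t => ?_⟩
    have h1 := hag t
    rw [hκ, ← act_smul] at h1
    exact (act_injective g h1).symm
  obtain ⟨c'', ha3⟩ := hA3 a haA
  obtain ⟨ha3, ν', hν', hacm⟩ := scal_cm hF hv hv1 (hall a haA) ha3
  have hνν : ν = ν' := by
    obtain ⟨t, ht, ht0, hgt⟩ := exists_meet hF hv hv1 g
    have h1 := hag t
    rw [hbcm t ht, act_smul, hacm _ hgt] at h1
    have hgt0 : act g t ≠ 0 := by rwa [Ne, act_eq_zero]
    have h2 : (ν' - ν) • act g t = 0 := by rw [sub_smul, h1, sub_self]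
    exact (sub_eq_zero.1 ((smul_eq_zero.1 h2).resolve_right hgt0)).symm
  subst hνν
  apply mem_cm_of_eig hF hv hv1 (hall a haA) ha3 hν hacm han
  rw [hag, hbcm u hu, act_smul]

/-- **no elements of order 8** preserve the commutator space -/
theorem no_eight_cm (hF : Fintype.card F = 2 ^ 2) {v g : SU 6 F 2} (hv : v ^ 5 = 1) (hv1 : v ≠ 1)
    (hg : ∀ u ∈ cm (actL v), act g u ∈ cm (actL v)) (h8 : g ^ 8 = 1) : g ^ 4 = 1 := by
  have hB := frm_herm hF 6
  have h2 := two_eq hF
  obtain ⟨hd4, hf2⟩ := five_dims hF hv hv1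
  have hgi : ∀ u ∈ cm (actL v), act g⁻¹ u ∈ cm (actL v) := by
    intro u hu
    have h1 : g⁻¹ = g ^ 7 := by
      rw [inv_eq_iff_mul_eq_one, ← pow_succ', h8]
    have h3 : ∀ k : ℕ, act (g ^ k) u ∈ cm (actL v) := by
      intro k
      induction k with
      | zero => rw [pow_zero, act_one]; exact hu
      | succ k ih => rw [pow_succ', act_mul]; exact hg _ ih
    rw [h1]
    exact h3 7
  have hgf : ∀ u ∈ fx (actL v), act g u ∈ fx (actL v) := by
    intro u hu
    obtain ⟨p, hp, q, hq, hpq⟩ := Submodule.mem_sup.1 (show act g u ∈ fx (actL v) ⊔ cm (actL v) by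
      rw [fx_sup_cm (five_ne hF) hv]; exact Submodule.mem_top)
    have hq0 : q = 0 := by
      by_contra hq0
      obtain ⟨t, ht, hqt⟩ := nd_cm hF (five_ne hF) hv q hq hq0
      apply hqt
      have h1 := herm_act g u (act g⁻¹ t)
      rw [act_act_inv, herm_fx_cm hF (mem_fx.1 hu) (hgi t ht), ← hpq, herm_add_left,
        herm_fx_cm hF (mem_fx.1 hp) ht, zero_add] at h1
      exact h1
    rw [← hpq, hq0, add_zero]
    exact hp
  set N : Module.End F (Fin 6 → F) := actL g - 1 with hN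
  have hNu : ∀ u, N u = act g u - u := fun u => rfl
  have hsq : ∀ f : Module.End F (Fin 6 → F), (f - 1) ^ 2 = f ^ 2 - 1 := by
    intro f
    ext u i
    rw [pow_two, pow_two]
    simp only [Module.End.mul_apply, LinearMap.sub_apply, Module.End.one_apply, map_sub, Pi.sub_apply,
      LinearMap.comp_apply]
    linear_combination ((LinearMap.single F (fun _ => F) u 1) i - f ((LinearMap.single F (fun _ => F) u) 1) i) * h2
  have hN4 : N ^ 4 = actL (g ^ 4) - 1 := by
    rw [show (4 : ℕ) = 2 * 2 from rfl, pow_mul, pow_mul, hN, hsq, hsq, actL_pow, actL_pow]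
  have hN8 : N ^ 8 = 0 := by
    rw [show (8 : ℕ) = 4 * 2 from rfl, pow_mul, hN4, hsq, ← actL_pow, ← pow_mul, h8, actL_one, sub_self]
  have key : ∀ U : Submodule F (Fin 6 → F), finrank F U ≤ 4 → (∀ u ∈ U, act g u ∈ U) → ∀ u ∈ U, act (g ^ 4) u = u := by
    intro U hU hgU u hu
    have hNp : ∀ u ∈ U, N u ∈ U := fun u hu => U.sub_mem (hgU u hu) hu
    have hr : (N.restrict hNp) ^ 8 = 0 := by
      rw [Module.End.pow_restrict]
      ext1 u
      apply Subtype.ext
      rw [LinearMap.restrict_apply, LinearMap.zero_apply]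
      change (N ^ 8) u = 0
      rw [hN8, LinearMap.zero_apply]
    have hr4 := pow_finrank_eq_zero hr
    have hr5 : (N.restrict hNp) ^ 4 = 0 := by
      rw [← Nat.sub_add_cancel hU, pow_add, hr4, mul_zero]
    rw [Module.End.pow_restrict] at hr5
    have h5 := congrArg Subtype.val (LinearMap.congr_fun hr5 ⟨u, hu⟩)
    rw [LinearMap.restrict_apply] at h5
    have h6 : (N ^ 4) u = 0 := h5
    rw [hN4] at h6
    exact sub_eq_zero.1 h6
  apply ext_act
  intro u
  rw [act_one]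
  obtain ⟨p, hp, q, hq, rfl⟩ := Submodule.mem_sup.1 (show u ∈ fx (actL v) ⊔ cm (actL v) by
    rw [fx_sup_cm (five_ne hF) hv]; exact Submodule.mem_top)
  rw [act_add, key _ (by omega) hgf p hp, key _ (by omega) hg q hq]

/-- **3-groups centralizing an element of order 5** -/
theorem card_three_le (hF : Fintype.card F = 2 ^ 2) {v : SU 6 F 2} (hv : v ^ 5 = 1) (hv1 : v ≠ 1)
    {S : Subgroup (SU 6 F 2)} (hS : IsPGroup 3 S) (hSv : ∀ a ∈ S, a * v = v * a) : Nat.card S ≤ 9 := by
  have h2 := two_eq hF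
  obtain ⟨hd4, hf2⟩ := five_dims hF hv hv1
  obtain ⟨g, hg, hgg⟩ := ClassicalGeometry.HermFrame.exists_orthonormal hF 2 (fx (actL v)) hf2 (fun u hu h => by
    by_contra hne
    obtain ⟨t, ht, hut⟩ := nd_fx hF (five_ne hF) hv u hu hne
    exact hut (h t ht))
  have g00 : hermForm 6 F 2 (g 0) (g 0) = 1 := by rw [hgg, if_pos rfl]
  have g11 : hermForm 6 F 2 (g 1) (g 1) = 1 := by rw [hgg, if_pos rfl]
  have g01 : hermForm 6 F 2 (g 0) (g 1) = 0 := by rw [hgg, if_neg (by decide)]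
  have g10 : hermForm 6 F 2 (g 1) (g 0) = 0 := by rw [hgg, if_neg (by decide)]
  have g0 : g 0 ≠ 0 := by
    intro h
    rw [h, herm_zero_left] at g00
    exact zero_ne_one g00
  have gli : ¬ ∃ c : F, g 1 = c • g 0 := by
    rintro ⟨c, hc⟩
    rw [hc, herm_smul_left, g00, mul_one] at g10
    rw [hc, g10, zero_smul, herm_zero_left] at g11
    exact zero_ne_one g11
  have hherm : ∀ a b : F, hermForm 6 F 2 (a • g 0 + b • g 1) (a • g 0 + b • g 1) = a ^ 3 + b ^ 3 := by
    intro a b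
    rw [herm_add_left, herm_add_right hF, herm_add_right hF, herm_smul_left, herm_smul_left, herm_smul_left,
      herm_smul_left, herm_smul_right, herm_smul_right, herm_smul_right, herm_smul_right, g00, g11, g01, g10]
    ring
  set f := g 0 + g 1 with hf
  have hffx : f ∈ fx (actL v) := Submodule.add_mem _ (hg 0) (hg 1)
  have hff : hermForm 6 F 2 f f = 0 := by
    have := hherm 1 1
    rw [one_smul, one_smul] at this
    rw [hf, this]
    linear_combination h2
  have hf0 : f ≠ 0 := by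
    intro h
    apply gli
    exact ⟨-1, by rw [neg_one_smul]; exact (eq_neg_iff_add_eq_zero.2 (by rw [add_comm]; exact h))⟩
  -- the action on `f` is free
  have hfree : ∀ a ∈ S, act a f = f → a = 1 := by
    intro a ha haf
    by_contra ha1
    obtain ⟨k, hk⟩ := hS ⟨a, ha⟩
    have hk' : a ^ 3 ^ k = 1 := congrArg Subtype.val hk
    have h3p : Fact (Nat.Prime 3) := ⟨by norm_num⟩
    obtain ⟨m, hm⟩ : ∃ m, orderOf a = 3 ^ (m + 1) := by
      obtain ⟨m, -, hm⟩ := (Nat.dvd_prime_pow (by norm_num : Nat.Prime 3)).1 (orderOf_dvd_of_pow_eq_one hk')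
      rcases m with _ | m
      · rw [pow_zero, orderOf_eq_one_iff] at hm
        exact absurd hm ha1
      · exact ⟨m, hm⟩
    set b := a ^ 3 ^ m with hb
    have hb3 : b ^ 3 = 1 := by rw [hb, ← pow_mul, ← pow_succ, ← hm, pow_orderOf_eq_one]
    have hb1 : b ≠ 1 := by
      intro h
      have h1 := orderOf_dvd_of_pow_eq_one h
      rw [hm, Nat.pow_dvd_pow_iff_le_right (by norm_num)] at h1
      omega
    have hbv : b * v = v * b := ((show Commute a v from hSv a ha).pow_left _).eq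
    have hbf : act b f = (1 : F) • f := by
      have := act_pow_smul a (c := 1) (by rw [haf, one_smul]) (3 ^ m)
      rwa [one_pow] at this
    obtain ⟨-, μ, hμ, hcm⟩ := scal_cm hF hv hv1 hbv (c := 1) (fun u => by rw [hb3, act_one, one_smul])
    have hsc := scal_of_iso hF hv hv1 hbv hb3 hμ hcm hffx hf0 hff hbf
    have h1 := hsc f
    rw [hbf] at h1
    have h3 : (1 - μ) • f = 0 := by rw [sub_smul, h1, sub_self]
    have h4 : μ = 1 := (sub_eq_zero.1 ((smul_eq_zero.1 h3).resolve_right hf0)).symm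
    apply hb1
    apply ext_act
    intro u
    rw [hsc u, h4, act_one, one_smul]
  -- the images of `f`
  have himg : ∀ a : S, ∃ c : Fˣ × Fˣ, act (a : SU 6 F 2) f = (c.1 : F) • g 0 + (c.2 : F) • g 1 := by
    intro a
    obtain ⟨c, d, hcd⟩ := span_two hf2 (hg 0) g0 (hg 1) gli _ (fx_comm (hSv a a.2) f hffx)
    have h5 := herm_act (a : SU 6 F 2) f f
    rw [hcd, hherm, hff] at h5
    have haf : act (a : SU 6 F 2) f ≠ 0 := by rwa [Ne, act_eq_zero]
    have hc0 : c ≠ 0 := by
      rintro rfl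
      have hd0 : d = 0 := by
        have : d ^ 3 = 0 := by linear_combination h5
        exact pow_eq_zero_iff (by norm_num) |>.1 this
      rw [hcd, hd0, zero_smul, zero_smul, add_zero] at haf
      exact haf rfl
    have hd0 : d ≠ 0 := by
      rintro rfl
      have : c ^ 3 = 0 := by linear_combination h5
      exact hc0 (pow_eq_zero_iff (by norm_num) |>.1 this)
    exact ⟨(Units.mk0 c hc0, Units.mk0 d hd0), hcd⟩
  choose φ hφ using himg
  have hinj : Function.Injective φ := by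
    intro a b hab
    have h1 : act (a : SU 6 F 2) f = act (b : SU 6 F 2) f := by rw [hφ a, hφ b, hab]
    have h3 : act ((b : SU 6 F 2)⁻¹ * (a : SU 6 F 2)) f = f := by rw [act_mul, h1, act_inv_act]
    have h4 := hfree _ (S.mul_mem (S.inv_mem b.2) a.2) h3
    exact Subtype.ext (inv_mul_eq_one.1 h4).symm
  have h1 := Nat.card_le_card_of_injective φ hinj
  rw [Nat.card_prod, Nat.card_units, Nat.card_eq_fintype_card (α := F), hF] at h1
  exact h1.trans (by norm_num)

end Cfsg.Agent.H251.Der.Geo
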