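import Cfsg.Agent.H251.Der.U52

/-!
# `U₅(2)`: the rows for S3500 and S3502 (helper251)

`row_u52` : every maximal subgroup misses two classes; `rowS_u52` : every proper subgroup misses three classes.
-/

set_option autoImplicit false

namespace Cfsg.Agent.H251.Der

open Subgroup Cfsg Cfsg.Agent.H396 Cfsg.Agent.OrdDiv Cfsg.Agent.H251.Small Cfsg.Agent.H439.Der

variable {F : Type} [Field F] [Fintype F]

theorem l211 {K : Type*} [Field K] [Fintype K] (hK : Fintype.card K = 11)
    (x : Matrix.ProjectiveSpecialLinearGroup (Fin 2) K) : orderOf x ∈ [1, 2, 3, 5, 6, 11] := by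
  have : Fact (Nat.Prime 11) := ⟨by norm_num⟩
  have : CharP K 11 := H455.NoNine.charP_of_card (k := 1) (by norm_num) (by rw [hK]; norm_num)
  have h1 := Cfsg.Agent.S2475.result (F := K) 11 (by rw [hK]; norm_num)
  have h2 : orderOf x ∈ Set.range (orderOf : Matrix.ProjectiveSpecialLinearGroup (Fin 2) K → ℕ) := ⟨x, rfl⟩
  rw [h1, hK] at h2
  rcases h2 with h | h | h
  · have := Nat.le_of_dvd (by norm_num) h
    interval_cases hn : orderOf x <;> revert h <;> decide
  · norm_num at h
    have := Nat.le_of_dvd (by norm_num) h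
    interval_cases hn : orderOf x <;> revert h <;> decide
  · norm_num at h
    have := Nat.le_of_dvd (by norm_num) h
    interval_cases hn : orderOf x <;> revert h <;> decide

section F

variable {S : Type} [Group S] [Finite S] [IsSimpleGroup S]

theorem ord_660 (OT : OrderTable.{0}) (hS : ∀ (X : Type) [Group X] [Finite X] [IsSimpleGroup X], Cfsg.IsKnownSimple' X)
    (hna : ¬ ∀ x y : S, x * y = y * x) (h : Nat.card S = 660) (x : S) : orderOf x ∈ [1, 2, 3, 5, 6, 11] := by
  obtain ⟨g, hg, hr⟩ := exists_real_filter OT (hS S) hna (l := [(2, 2), (3, 1), (5, 1), (11, 1)])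
    (N := 660) (by decide +kernel) (by rw [h]) (fun o => Nat.beq o 660) (by rw [h]; rfl)
  rw [show ((cands [(2, 2), (3, 1), (5, 1), (11, 1)] 660).filter fun g => Nat.beq (ordN g) 660) =
    [.psl 2 11] by decide +kernel] at hg
  simp only [List.mem_cons, List.not_mem_nil, or_false] at hg
  subst hg
  obtain ⟨F, _, _, hF, ⟨e⟩⟩ := hr
  exact mem_of_equiv e (l211 hF) x

theorem ord_7920 (OT : OrderTable.{0}) (hS : ∀ (X : Type) [Group X] [Finite X] [IsSimpleGroup X], Cfsg.IsKnownSimple' X)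
    (hna : ¬ ∀ x y : S, x * y = y * x) (h : Nat.card S = 7920) (x : S) : orderOf x ∈ [1, 2, 3, 4, 5, 6, 8, 11] := by
  obtain ⟨g, hg, hr⟩ := exists_real_filter OT (hS S) hna (l := [(2, 4), (3, 2), (5, 1), (11, 1)])
    (N := 7920) (by decide +kernel) (by rw [h]) (fun o => Nat.beq o 7920) (by rw [h]; rfl)
  rw [show ((cands [(2, 4), (3, 2), (5, 1), (11, 1)] 7920).filter fun g => Nat.beq (ordN g) 7920) =
    [.m11] by decide +kernel] at hg
  simp only [List.mem_cons, List.not_mem_nil, or_false] at hg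
  subst hg
  exact H180.KM11.orders hr x

end F

/-- **Every proper subgroup of `U₅(2)` misses three classes.** -/
theorem three_u52 (OT : OrderTable.{0})
    (hS : ∀ (X : Type) [Group X] [Finite X] [IsSimpleGroup X], Cfsg.IsKnownSimple' X)
    (hF : Fintype.card F = 2 ^ 2) {M : Subgroup (PSU 5 F 2)} (hM : M ≠ ⊤) : Three (PSU 5 F 2) M := by
  have hcard := card_u5 hF
  have : Finite (PSU 5 F 2) := Nat.finite_of_card_ne_zero (by rw [hcard]; norm_num)
  have h5p : Fact (Nat.Prime 5) := ⟨by norm_num⟩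
  have h11p : Fact (Nat.Prime 11) := ⟨by norm_num⟩
  obtain ⟨x5, hx5⟩ : ∃ x : PSU 5 F 2, orderOf x = 5 := exists_prime_orderOf_dvd_card' 5 (by rw [hcard]; norm_num)
  obtain ⟨x11, hx11⟩ : ∃ x : PSU 5 F 2, orderOf x = 11 := exists_prime_orderOf_dvd_card' 11 (by rw [hcard]; norm_num)
  obtain ⟨x8, hx8⟩ : ∃ x : PSU 5 F 2, orderOf x = 8 :=
    Cfsg.Agent.H372.exists_eight_psu_even hF (Geo.two_eq hF) (by norm_num)
  obtain ⟨x15, hx15⟩ := Cfsg.Agent.H541.RecU52.exists_fifteen hF
  obtain ⟨x18, hx18⟩ := exists_eighteen hF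
  have hx9 : orderOf (x18 ^ 2) = 9 := by rw [orderOf_pow' _ (by norm_num), hx18]; rfl
  have hx4 : orderOf (x8 ^ 2) = 4 := by rw [orderOf_pow' _ (by norm_num), hx8]; rfl
  have hx2 : orderOf (x8 ^ 4) = 2 := by rw [orderOf_pow' _ (by norm_num), hx8]; rfl
  have hno : ∀ n, ¬ n ∣ Nat.card M → ∀ m ∈ M, orderOf m ≠ n := by
    intro n hn m hm h
    apply hn
    have := orderOf_dvd_natCard (⟨m, hm⟩ : M)
    rwa [Subgroup.orderOf_mk, h] at this
  by_cases h11 : 11 ∣ Nat.card M
  · by_cases h2 : 2 ∣ Nat.card M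
    swap
    · exact Three.of_not_dvd h2 (not_SCC_of_orders (x := x8) (y := x8 ^ 2) (z := x8 ^ 4) (by rw [hx8]; norm_num)
        (by rw [hx4]; norm_num) (by rw [hx2]) (by rw [hx8, hx4]; norm_num) (by rw [hx8, hx2]; norm_num)
        (by rw [hx4, hx2]; norm_num)) ⟨x8, by rw [hx8]; norm_num⟩
    by_cases h3 : 3 ∣ Nat.card M
    swap
    · exact Three.of_not_dvd h3 (not_SCC_of_orders (x := x15) (y := x18) (z := x18 ^ 2) (by rw [hx15]; norm_num)
        (by rw [hx18]; norm_num) (by rw [hx9]; norm_num) (by rw [hx15, hx18]; norm_num) (by rw [hx15, hx9]; norm_num)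
        (by rw [hx18, hx9]; norm_num)) ⟨x15, by rw [hx15]; norm_num⟩
    have D := data_u52 OT hS hF
    have hle := le_u52 hF hM
    obtain ⟨L, hLn, R, hRn, P, hP, hPL, hs, hcH, hmem, hna⟩ := exists_trip D M (p := 11) (k := 1) (M := 5) (by simp)
      h11 (l := [(2, 10), (3, 5), (5, 1), (11, 1)]) (by rw [hcard]; decide +kernel)
      (fun h => Nat.beq (h % 6) 0 && Nat.ble h 82944) (by
        rw [Bool.and_eq_true, Nat.beq_eq, Nat.ble_eq]
        omega)
    rw [show trip 11 1 5 [2, 3, 5, 11] tbl5 [(2, 10), (3, 5), (5, 1), (11, 1)]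
      (fun h => Nat.beq (h % 6) 0 && Nat.ble h 82944) = [(660, 1, 660), (7920, 1, 7920)] by decide +kernel] at hmem
    simp only [List.mem_cons, List.not_mem_nil, or_false, Prod.mk.injEq] at hmem
    have key : ∀ s : ℕ, s ≠ 11 → Nat.card M = s → L.index = 1 → Nat.card (L ⧸ R) = s → 0 < s →
        (¬ ∀ x y : L ⧸ R, x * y = y * x) ∧ ∀ m ∈ M, ∃ z : L ⧸ R, orderOf z = orderOf m := by
      intro s hs11 e1 e2 e3 hs0
      refine ⟨hna.resolve_left (by rw [e3]; exact hs11), fun m hm => ?_⟩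
      refine exists_sec (R := R) (x := (⟨m, hm⟩ : M)) (by rw [Subgroup.orderOf_mk]) (by rw [e2]; exact Nat.coprime_one_right _) ?_
      rw [e1, e2, e3, mul_one] at hcH
      rw [show Nat.card R = 1 from Nat.eq_of_mul_eq_mul_right hs0 (by rw [one_mul]; exact hcH.symm)]
      exact Nat.coprime_one_right _
    have hthree : (∀ m ∈ M, orderOf m ≠ 9 ∧ orderOf m ≠ 15 ∧ orderOf m ≠ 18) → Three (PSU 5 F 2) M := fun h =>
      Three.of_orders (by norm_num) (by norm_num) (by norm_num) hx9 hx15 hx18 (fun m hm => (h m hm).1)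
        (fun m hm => (h m hm).2.1) (fun m hm => (h m hm).2.2)
    rcases hmem with ⟨e1, e2, e3⟩ | ⟨e1, e2, e3⟩
    · apply hthree
      intro m hm
      obtain ⟨h1, h2⟩ := key 660 (by norm_num) e1 e2 e3 (by norm_num)
      obtain ⟨z, hz⟩ := h2 m hm
      have h3 := ord_660 OT hS h1 e3 z
      rw [hz] at h3
      simp only [List.mem_cons, List.not_mem_nil, or_false] at h3
      omega
    · apply hthree
      intro m hm
      obtain ⟨h1, h2⟩ := key 7920 (by norm_num) e1 e2 e3 (by norm_num)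
      obtain ⟨z, hz⟩ := h2 m hm
      have h3 := ord_7920 OT hS h1 e3 z
      rw [hz] at h3
      simp only [List.mem_cons, List.not_mem_nil, or_false] at h3
      omega
  · by_cases h5 : 5 ∣ Nat.card M
    · by_cases h9 : ∃ m ∈ M, orderOf m = 9
      · obtain ⟨m, hmM, hm⟩ := h9
        obtain ⟨h8, h18 | h15⟩ := five_nine OT hS hF h5 h11 hmM hm
        · exact Three.of_orders (by norm_num) (by norm_num) (by norm_num) hx11 hx8 hx18 (hno 11 h11) h8 h18
        · exact Three.of_orders (by norm_num) (by norm_num) (by norm_num) hx11 hx8 hx15 (hno 11 h11) h8 h15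
      · push Not at h9
        refine Three.of_orders (by norm_num) (by norm_num) (by norm_num) hx11 hx9 hx18 (hno 11 h11) h9 ?_
        intro m hm h18
        refine h9 (m ^ 2) (M.pow_mem hm 2) ?_
        rw [orderOf_pow' _ (by norm_num), h18]
        rfl
    · refine Three.of_orders (by norm_num) (by norm_num) (by norm_num) hx11 hx5 hx15 (hno 11 h11) (hno 5 h5) ?_
      intro m hm h15
      apply h5
      have := orderOf_dvd_natCard (⟨m, hm⟩ : M)
      rw [Subgroup.orderOf_mk, h15] at this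
      exact (by norm_num : 5 ∣ 15).trans this

theorem rowS_u52 (OT : OrderTable.{0})
    (hS : ∀ (X : Type) [Group X] [Finite X] [IsSimpleGroup X], Cfsg.IsKnownSimple' X)
    (hF : Fintype.card F = 2 ^ 2) : RowS (PSU 5 F 2) := by
  have : Finite (PSU 5 F 2) := Nat.finite_of_card_ne_zero (by rw [card_u5 hF]; norm_num)
  exact RowS.of_three fun M hM => three_u52 OT hS hF hM.1

theorem row_u52 (OT : OrderTable.{0})
    (hS : ∀ (X : Type) [Group X] [Finite X] [IsSimpleGroup X], Cfsg.IsKnownSimple' X)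
    (hF : Fintype.card F = 2 ^ 2) : Row (PSU 5 F 2) := (rowS_u52 OT hS hF).row

end Cfsg.Agent.H251.Der
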