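import Cfsg.Agent.H251.Der.U62

/-!
# `U₆(2)`: the row for S3500 (helper251)
-/

set_option autoImplicit false

namespace Cfsg.Agent.H251.Der

open Subgroup Cfsg Cfsg.Agent.H396 Cfsg.Agent.OrdDiv Cfsg.Agent.H251.Small Cfsg.Agent.H439.Der

variable {F : Type} [Field F] [Fintype F]

/-- 7 and 11 divide the order -/
theorem both_u62 (OT : OrderTable.{0})
    (hS : ∀ (X : Type) [Group X] [Finite X] [IsSimpleGroup X], Cfsg.IsKnownSimple' X)
    (hF : Fintype.card F = 2 ^ 2) {M : Subgroup (PSU 6 F 2)} (hM : M ≠ ⊤) (h11 : 11 ∣ Nat.card M)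
    (h7 : 7 ∣ Nat.card M) : Three (PSU 6 F 2) M := by
  have hcard := card_u6 hF
  rcases pgap_u6 OT hS hF M hM with ⟨r, hr, hr1, hr2⟩ | h22
  · have h1 : r ∈ Nat.primeFactors 9196830720 := Nat.mem_primeFactors.2 ⟨hr, by rwa [hcard] at hr1, by norm_num⟩
    rw [Nat.mem_primeFactors] at h1
    obtain ⟨-, h1, -⟩ := h1
    rw [show (9196830720 : ℕ) = 2 ^ 15 * (3 ^ 6 * (5 * (7 * 11))) by norm_num] at h1
    have h2357 : r = 2 ∨ r = 3 ∨ r = 5 := by
      rcases (Nat.Prime.dvd_mul hr).1 h1 with h1 | h1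
      · exact Or.inl ((Nat.prime_dvd_prime_iff_eq hr Nat.prime_two).1 (hr.dvd_of_dvd_pow h1))
      rcases (Nat.Prime.dvd_mul hr).1 h1 with h1 | h1
      · exact Or.inr (Or.inl ((Nat.prime_dvd_prime_iff_eq hr Nat.prime_three).1 (hr.dvd_of_dvd_pow h1)))
      rcases (Nat.Prime.dvd_mul hr).1 h1 with h1 | h1
      · exact Or.inr (Or.inr ((Nat.prime_dvd_prime_iff_eq hr (by norm_num)).1 h1))
      rcases (Nat.Prime.dvd_mul hr).1 h1 with h1 | h1
      · rw [(Nat.prime_dvd_prime_iff_eq hr (by norm_num)).1 h1] at hr2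
        exact absurd h7 hr2
      · rw [(Nat.prime_dvd_prime_iff_eq hr (by norm_num)).1 h1] at hr2
        exact absurd h11 hr2
    rcases h2357 with rfl | rfl | rfl
    · exact three_u62 hF (a := 2) (b := 4) (c := 8) (by simp) (by simp) (by simp) (by norm_num) (by norm_num)
        (by norm_num) (no_ord hr2) (no_ord fun h => hr2 ((by norm_num : 2 ∣ 4).trans h))
        (no_ord fun h => hr2 ((by norm_num : 2 ∣ 8).trans h))
    · exact three_u62 hF (a := 9) (b := 15) (c := 18) (by simp) (by simp) (by simp) (by norm_num) (by norm_num)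
        (by norm_num) (no_ord fun h => hr2 ((by norm_num : 3 ∣ 9).trans h))
        (no_ord fun h => hr2 ((by norm_num : 3 ∣ 15).trans h))
        (no_ord fun h => hr2 ((by norm_num : 3 ∣ 18).trans h))
    · exact three_u62 hF (a := 5) (b := 10) (c := 15) (by simp) (by simp) (by simp) (by norm_num) (by norm_num)
        (by norm_num) (no_ord hr2) (no_ord fun h => hr2 ((by norm_num : 5 ∣ 10).trans h))
        (no_ord fun h => hr2 ((by norm_num : 5 ∣ 15).trans h))
  · have h9 : ∀ m ∈ M, orderOf m ≠ 9 := by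
      intro m hm h
      refine (m22_ne h22 ⟨m, hm⟩).1 ?_
      rw [Subgroup.orderOf_mk, h]
    have h15 : ∀ m ∈ M, orderOf m ≠ 15 := by
      intro m hm h
      refine (m22_ne h22 ⟨m, hm⟩).2 ?_
      rw [Subgroup.orderOf_mk, h]
    exact three_u62 hF (a := 9) (b := 15) (c := 18) (by simp) (by simp) (by simp) (by norm_num) (by norm_num)
      (by norm_num) h9 h15 (no_double h9)

theorem two_u62 (OT : OrderTable.{0})
    (hS : ∀ (X : Type) [Group X] [Finite X] [IsSimpleGroup X], Cfsg.IsKnownSimple' X)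
    (hF : Fintype.card F = 2 ^ 2) {M : Subgroup (PSU 6 F 2)} (hM : M ≠ ⊤) : Two (PSU 6 F 2) M := by
  have htwo : ∀ {a b : ℕ}, a ∈ [2, 4, 5, 7, 8, 9, 10, 11, 15, 18] → b ∈ [2, 4, 5, 7, 8, 9, 10, 11, 15, 18] → a ≠ b →
      (∀ m ∈ M, orderOf m ≠ a) → (∀ m ∈ M, orderOf m ≠ b) → Two (PSU 6 F 2) M := by
    intro a b ha hb hab hMa hMb
    obtain ⟨x, hx⟩ := exists_u62 hF ha
    obtain ⟨y, hy⟩ := exists_u62 hF hb
    exact Two.of_orders hab hx hy hMa hMb
  by_cases h11 : 11 ∣ Nat.card M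
  · by_cases h7 : 7 ∣ Nat.card M
    · exact (both_u62 OT hS hF hM h11 h7).two
    · rcases eleven_u62 OT hS hF hM h11 h7 with h | ⟨-, h⟩
      · exact h.two
      · exact htwo (a := 7) (b := 10) (by simp) (by simp) (by norm_num) (no_ord h7) h
  · by_cases h7 : 7 ∣ Nat.card M
    · rcases seven_u62 OT hS hF hM h11 h7 with h | ⟨-, h⟩ | ⟨-, h⟩
      · exact h.two
      · exact htwo (a := 11) (b := 15) (by simp) (by simp) (by norm_num) (no_ord h11) h
      · exact htwo (a := 11) (b := 18) (by simp) (by simp) (by norm_num) (no_ord h11) h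
    · exact htwo (a := 7) (b := 11) (by simp) (by simp) (by norm_num) (no_ord h7) (no_ord h11)

theorem row_u62 (OT : OrderTable.{0})
    (hS : ∀ (X : Type) [Group X] [Finite X] [IsSimpleGroup X], Cfsg.IsKnownSimple' X)
    (hF : Fintype.card F = 2 ^ 2) : Row (PSU 6 F 2) := fun _ hM => Or.inl (two_u62 OT hS hF hM.1)

end Cfsg.Agent.H251.Der
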