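import Cfsg.Agent.H251.Der.SixFive
import Cfsg.Agent.H251.Der.U62Row

/-!
# `U₆(2)`: the strong row for S3502 (helper251)
-/

set_option autoImplicit false

namespace Cfsg.Agent.H251.Der

open Subgroup Cfsg Cfsg.Agent.H396 Cfsg.Agent.OrdDiv Cfsg.Agent.H251.Small Cfsg.Agent.H439.Der

variable {F : Type} [Field F] [Fintype F]

theorem trip_five6 : (trip 5 6 24 [2, 3, 5, 7, 11] tbl6 [(2, 15), (3, 6), (5, 1), (7, 1), (11, 1)]
    (fun h => Nat.beq (h % 9) 0 && Nat.beq (h % 8) 0 && !(Nat.beq (h % 7) 0) && !(Nat.beq (h % 11) 0))).filter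
      (fun t => Nat.beq t.1 (t.2.1 * t.2.2)) =
    [(360, 1, 360), (360, 6, 60), (1080, 3, 360), (720, 2, 360), (720, 12, 60), (2160, 6, 360), (1440, 4, 360),
      (4320, 12, 360), (25920, 1, 25920), (77760, 3, 25920), (51840, 2, 25920), (155520, 6, 25920)] := by
  decide +kernel

/-- **5 divides the order, 7 and 11 do not** -/
theorem five_u62 (OT : OrderTable.{0})
    (hS : ∀ (X : Type) [Group X] [Finite X] [IsSimpleGroup X], Cfsg.IsKnownSimple' X)
    (hF : Fintype.card F = 2 ^ 2) {M : Subgroup (PSU 6 F 2)} (h5 : 5 ∣ Nat.card M) (h7 : ¬ 7 ∣ Nat.card M)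
    (h11 : ¬ 11 ∣ Nat.card M) :
    (∀ m ∈ M, orderOf m ≠ 8) ∨ (∀ m ∈ M, orderOf m ≠ 9) ∨ ∀ m ∈ M, orderOf m ≠ 15 := by
  have hcard := card_u6 hF
  have D := data_five6 OT hS hF
  have := D.fin
  by_contra hcon
  push Not at hcon
  obtain ⟨⟨g, hgM, hg⟩, ⟨x, hxM, hx⟩, ⟨y, hyM, hy⟩⟩ := hcon
  have hd : ∀ {m : PSU 6 F 2} {n : ℕ}, m ∈ M → orderOf m = n → n ∣ Nat.card M := by
    intro m n hm h
    have := orderOf_dvd_natCard (⟨m, hm⟩ : M)
    rwa [Subgroup.orderOf_mk, h] at this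
  have hd8 := hd hgM hg
  have hd9 := hd hxM hx
  have hiii : ∀ K : Subgroup M, K.Normal → (∃ a b, Nat.card K = 2 ^ a * 3 ^ b) → K = ⊥ := by
    rintro K hK ⟨a, b, hab⟩
    exact six_normal hF hxM hyM hgM hx hy hg hab
  obtain ⟨L, hLn, R, hRn, P, hP, hPL, hs, hcH, hmem, hna, h5Q, h5R⟩ := exists_trip' D M (p := 5) (k := 6) (M := 24)
    (by simp) h5 (l := [(2, 15), (3, 6), (5, 1), (7, 1), (11, 1)]) (by rw [hcard]; decide +kernel)
    (fun h => Nat.beq (h % 9) 0 && Nat.beq (h % 8) 0 && !(Nat.beq (h % 7) 0) && !(Nat.beq (h % 11) 0)) (by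
      rw [Bool.and_eq_true, Bool.and_eq_true, Bool.and_eq_true, Nat.beq_eq, Nat.beq_eq, Bool.not_eq_true',
        ← Bool.not_eq_true, Nat.beq_eq, Bool.not_eq_true', ← Bool.not_eq_true, Nat.beq_eq]
      omega)
  have hcM : Nat.card M ∣ 9196830720 := by
    have := Subgroup.card_subgroup_dvd_card M
    rwa [hcard] at this
  have hform : ∀ n : ℕ, n ∣ Nat.card M → ¬ 5 ∣ n → ∃ a b, n = 2 ^ a * 3 ^ b := by
    intro n hn h5n
    apply exists_pow_of_dvd (a := 15) (b := 6)
    have h1 : n ∣ 5 * (7 * (11 * (2 ^ 15 * 3 ^ 6))) := by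
      have := hn.trans hcM
      norm_num at this ⊢
      exact this
    have h2 : ¬ 11 ∣ n := fun h => h11 (h.trans hn)
    have h2' : ¬ 7 ∣ n := fun h => h7 (h.trans hn)
    have h3 := Nat.Coprime.dvd_of_dvd_mul_left (((Nat.Prime.coprime_iff_not_dvd (by norm_num)).2 h5n).symm) h1
    have h4 := Nat.Coprime.dvd_of_dvd_mul_left (((Nat.Prime.coprime_iff_not_dvd (by norm_num)).2 h2').symm) h3
    exact Nat.Coprime.dvd_of_dvd_mul_left (((Nat.Prime.coprime_iff_not_dvd (by norm_num)).2 h2).symm) h4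
  have hK := normal_map hs h5R h5Q
  have hKc : Nat.card (R.map L.subtype) = Nat.card R :=
    Nat.card_congr (R.equivMapOfInjective _ L.subtype_injective).symm.toEquiv
  have hKb := hiii _ hK (hform _ (Subgroup.card_subgroup_dvd_card _) (by rw [hKc]; exact h5R))
  rw [Subgroup.map_eq_bot_iff_of_injective _ L.subtype_injective] at hKb
  subst hKb
  have hR1 : Nat.card (⊥ : Subgroup L) = 1 := Subgroup.card_bot
  rw [hR1, one_mul] at hcH
  have hmem2 : (Nat.card M, L.index, Nat.card (L ⧸ (⊥ : Subgroup L))) ∈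
      (trip 5 6 24 [2, 3, 5, 7, 11] tbl6 [(2, 15), (3, 6), (5, 1), (7, 1), (11, 1)]
        (fun h => Nat.beq (h % 9) 0 && Nat.beq (h % 8) 0 && !(Nat.beq (h % 7) 0) && !(Nat.beq (h % 11) 0))).filter
          (fun t => Nat.beq t.1 (t.2.1 * t.2.2)) := by
    rw [List.mem_filter]
    refine ⟨hmem, ?_⟩
    rw [Nat.beq_eq, mul_comm]
    exact hcH
  rw [trip_five6] at hmem2
  have eL : L ⧸ (⊥ : Subgroup L) ≃* L := QuotientGroup.quotientBot
  have hcL : Nat.card (L ⧸ (⊥ : Subgroup L)) = Nat.card L := Nat.card_congr eL.toEquiv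
  have hsL : IsSimpleGroup L := by
    have := hs
    exact MulEquiv.isSimpleGroup eL.symm
  have hna' : Nat.card L ≠ 5 → ¬ ∀ x y : L, x * y = y * x := by
    intro h hc
    rcases hna with h1 | h1
    · exact h (by rw [← hcL]; exact h1)
    · apply h1
      intro x y
      apply eL.injective
      rw [map_mul, map_mul]
      exact hc _ _
  have haut : Nat.card L ≠ 5 → ¬ 5 ∣ L.index → Nat.card M ∣ Nat.card (MulAut L) := by
    intro h hi
    refine card_dvd_aut hsL (hna' h) ?_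
    intro K hK hKi
    exact hiii K hK (hform _ (Subgroup.card_subgroup_dvd_card _) fun h => hi (h.trans hKi))
  have hsec : Nat.Coprime 15 L.index → ∃ z : L, orderOf z = 15 := by
    intro h
    obtain ⟨z, hz⟩ := exists_sec (R := (⊥ : Subgroup L)) (x := (⟨y, hyM⟩ : M)) (n := 15)
      (by rw [Subgroup.orderOf_mk, hy]) h (by rw [hR1]; norm_num)
    exact ⟨eL z, by rw [MulEquiv.orderOf_eq, hz]⟩
  simp only [List.mem_cons, List.not_mem_nil, or_false, Prod.mk.injEq, hcL] at hmem2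
  have a60 : Nat.card L = 60 → ¬ 5 ∣ L.index → False := fun h hi =>
    aut_60 OT hS (hna' (by rw [h]; norm_num)) h (hd9.trans (haut (by rw [h]; norm_num) hi))
  have a360 : Nat.card L = 360 → ¬ 5 ∣ L.index → ¬ Nat.card M ∣ 1440 → False := fun h hi h9 =>
    h9 (by
      have h1 := haut (by rw [h]; norm_num) hi
      rwa [aut_360 OT hS (hna' (by rw [h]; norm_num)) h] at h1)
  have a25920 : Nat.card L = 25920 → ¬ 5 ∣ L.index → ¬ Nat.card M ∣ 51840 → False := fun h hi h9 =>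
    h9 (by
      have h1 := haut (by rw [h]; norm_num) hi
      rwa [aut_25920 OT hS (hna' (by rw [h]; norm_num)) h] at h1)
  have b360 : Nat.card L = 360 → Nat.Coprime 15 L.index → False := fun h hi => by
    obtain ⟨z, hz⟩ := hsec hi
    have := ord_360 OT hS (hna' (by rw [h]; norm_num)) h z
    rw [hz] at this
    simp at this
  have b25920 : Nat.card L = 25920 → Nat.Coprime 15 L.index → False := fun h hi => by
    obtain ⟨z, hz⟩ := hsec hi
    have := ord_25920 OT hS (hna' (by rw [h]; norm_num)) h z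
    rw [hz] at this
    simp at this
  rcases hmem2 with ⟨e1, e2, e3⟩ | ⟨e1, e2, e3⟩ | ⟨e1, e2, e3⟩ | ⟨e1, e2, e3⟩ | ⟨e1, e2, e3⟩ | ⟨e1, e2, e3⟩ |
    ⟨e1, e2, e3⟩ | ⟨e1, e2, e3⟩ | ⟨e1, e2, e3⟩ | ⟨e1, e2, e3⟩ | ⟨e1, e2, e3⟩ | ⟨e1, e2, e3⟩
  · exact b360 e3 (by rw [e2]; norm_num)
  · exact a60 e3 (by rw [e2]; norm_num)
  · exact a360 e3 (by rw [e2]; norm_num) (by rw [e1]; norm_num)
  · exact b360 e3 (by rw [e2]; norm_num)
  · exact a60 e3 (by rw [e2]; norm_num)
  · exact a360 e3 (by rw [e2]; norm_num) (by rw [e1]; norm_num)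
  · exact b360 e3 (by rw [e2]; norm_num)
  · exact a360 e3 (by rw [e2]; norm_num) (by rw [e1]; norm_num)
  · exact b25920 e3 (by rw [e2]; norm_num)
  · exact a25920 e3 (by rw [e2]; norm_num) (by rw [e1]; norm_num)
  · exact b25920 e3 (by rw [e2]; norm_num)
  · exact a25920 e3 (by rw [e2]; norm_num) (by rw [e1]; norm_num)

/-- **the proper subgroups of `U₆(2)`** -/
theorem three_or_u62 (OT : OrderTable.{0})
    (hS : ∀ (X : Type) [Group X] [Finite X] [IsSimpleGroup X], Cfsg.IsKnownSimple' X)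
    (hF : Fintype.card F = 2 ^ 2) {M : Subgroup (PSU 6 F 2)} (hM : M ≠ ⊤) :
    Three (PSU 6 F 2) M ∨ Nat.card M = 13685760 ∨ Nat.card M = 6531840 ∨ Nat.card M = 1451520 := by
  by_cases h11 : 11 ∣ Nat.card M
  · by_cases h7 : 7 ∣ Nat.card M
    · exact Or.inl (both_u62 OT hS hF hM h11 h7)
    · rcases eleven_u62 OT hS hF hM h11 h7 with h | ⟨h, -⟩
      · exact Or.inl h
      · exact Or.inr (Or.inl h)
  · by_cases h7 : 7 ∣ Nat.card M
    · rcases seven_u62 OT hS hF hM h11 h7 with h | ⟨h, -⟩ | ⟨h, -⟩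
      · exact Or.inl h
      · exact Or.inr (Or.inr (Or.inl h))
      · exact Or.inr (Or.inr (Or.inr h))
    · left
      by_cases h5 : 5 ∣ Nat.card M
      · rcases five_u62 OT hS hF h5 h7 h11 with h | h | h
        · exact three_u62 hF (a := 7) (b := 11) (c := 8) (by simp) (by simp) (by simp) (by norm_num) (by norm_num)
            (by norm_num) (no_ord h7) (no_ord h11) h
        · exact three_u62 hF (a := 7) (b := 11) (c := 9) (by simp) (by simp) (by simp) (by norm_num) (by norm_num)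
            (by norm_num) (no_ord h7) (no_ord h11) h
        · exact three_u62 hF (a := 7) (b := 11) (c := 15) (by simp) (by simp) (by simp) (by norm_num) (by norm_num)
            (by norm_num) (no_ord h7) (no_ord h11) h
      · exact three_u62 hF (a := 7) (b := 11) (c := 5) (by simp) (by simp) (by simp) (by norm_num) (by norm_num)
          (by norm_num) (no_ord h7) (no_ord h11) (no_ord h5)

/-- **the strong row of `U₆(2)`** -/
theorem rowS_u62 (OT : OrderTable.{0})
    (hS : ∀ (X : Type) [Group X] [Finite X] [IsSimpleGroup X], Cfsg.IsKnownSimple' X)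
    (hF : Fintype.card F = 2 ^ 2) : RowS (PSU 6 F 2) := by
  have hcard := card_u6 hF
  have : Finite (PSU 6 F 2) := Nat.finite_of_card_ne_zero (by rw [hcard]; norm_num)
  refine RowS.of_coatoms fun M hM => ?_
  by_cases h3 : Three (PSU 6 F 2) M
  · exact Or.inl h3
  refine Or.inr ⟨two_u62 OT hS hF hM.1, fun R hRM => ?_⟩
  have hle : R ≤ M := hRM.le
  have hRtop : R ≠ ⊤ := fun h => hM.1 (top_le_iff.1 (h ▸ hle))
  have hdvd := Subgroup.card_dvd_of_le hle
  have hlt : Nat.card R < Nat.card M := by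
    refine lt_of_le_of_ne (Nat.le_of_dvd Nat.card_pos hdvd) fun h => hRM.ne ?_
    exact Subgroup.eq_of_le_of_card_ge hle h.ge
  have h1 := (three_or_u62 OT hS hF hM.1).resolve_left h3
  rcases three_or_u62 OT hS hF hRtop with h | h
  · exact h
  · exfalso
    rcases h1 with h1 | h1 | h1 <;> rcases h with h | h | h <;> rw [h, h1] at hdvd hlt <;> omega

end Cfsg.Agent.H251.Der
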